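import Groth.Agent.CurvSt.K760.Iface
import Groth.Agent.NonAbH1.K552.Double
import Groth.Agent.CurvSt.K310.ExistsCurve
import Groth.Agent.Smoothlim.SmoothLocusBC
import Groth.Agent.Models.K380.NormBC
import Groth.Agent.Ega2.SmoothBdry
import Groth.Agent.EssDim.K995.CurveBasic
import Groth.Agent.Ega1.GenPts
import Groth.Agent.Sga4B.SmoothNormal
import Groth.Agent.Models.K381.DedFlat

/-!
# Glueing two stable families along an open subscheme of the bases

* `exists_pt`: points of fibre products.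
* `exists_glue`: glueing of two families.
* `isStableFam_glue`: the glued family is stable.

# Smooth fibres of stable families

* `smooth_of_closed_fibre`: a proper flat family over a local scheme with smooth closed fibre is smooth.
* `isCurveOfGenus_of_smooth`: a smooth stable family is a family of smooth curves.
* `curve_facts`: curves of genus `g` over a field.
* `smooth_spec`: spectra of Dedekind domains of finite type over a perfect field are smooth.
-/

set_option autoImplicit false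
universe u
open CategoryTheory CategoryTheory.Limits AlgebraicGeometry

namespace K641.HurwAsm

theorem exists_pt {X Y Z P : Scheme.{u}} {a : P ⟶ X} {b : P ⟶ Y} {f : X ⟶ Z} {g : Y ⟶ Z} (h : IsPullback a b f g)
    (x : X) (y : Y) (w : f x = g y) : ∃ p : P, a p = x ∧ b p = y := by
  obtain ⟨z, hz1, hz2⟩ := Scheme.Pullback.exists_preimage_pullback x y w
  refine ⟨h.isoPullback.inv z, ?_, ?_⟩
  · rw [← Scheme.Hom.comp_apply, h.isoPullback_inv_fst, hz1]
  · rw [← Scheme.Hom.comp_apply, h.isoPullback_inv_snd, hz2]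

/-- A square of open immersions over open immersions is cartesian if it is on points. -/
theorem isPullback_of_open {C₁ C U T : Scheme.{u}} {c : C₁ ⟶ C} {f₁ : C₁ ⟶ U} {f : C ⟶ T} {i : U ⟶ T}
    [IsOpenImmersion i] [IsOpenImmersion c] (w : c ≫ f = f₁ ≫ i)
    (h : ∀ (x : C) (y : U), f x = i y → x ∈ Set.range c) : IsPullback c f₁ f i := by
  obtain ⟨l, hl1, hl2⟩ : ∃ l : C₁ ⟶ pullback f i, l ≫ pullback.fst f i = c ∧ l ≫ pullback.snd f i = f₁ :=
    ⟨pullback.lift c f₁ w, pullback.lift_fst _ _ _, pullback.lift_snd _ _ _⟩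
  have h1 : IsOpenImmersion l := by
    have : IsOpenImmersion (l ≫ pullback.fst f i) := by rw [hl1]; infer_instance
    exact .of_comp _ (pullback.fst f i)
  have h2 : Function.Surjective l := by
    intro y
    have e1 : f (pullback.fst f i y) = i (pullback.snd f i y) := by
      rw [← Scheme.Hom.comp_apply, ← Scheme.Hom.comp_apply, pullback.condition]
    obtain ⟨x, hx⟩ := h _ _ e1
    refine ⟨x, (pullback.fst f i).isOpenEmbedding.injective ?_⟩
    rw [← Scheme.Hom.comp_apply, hl1, hx]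
  have h3 : IsIso l := by
    have : Surjective l := ⟨h2⟩
    exact (isIso_iff_isOpenImmersion_and_epi_base l).2 ⟨h1, (TopCat.epi_iff_surjective _).2 h2⟩
  exact IsPullback.of_iso (IsPullback.of_hasPullback f i) (asIso l).symm (Iso.refl _) (Iso.refl _) (Iso.refl _)
    (by simp [← hl1]) (by simp [← hl2]) (by simp) (by simp)

/-- Glueing of two families along an open subscheme of the bases. -/
theorem exists_glue {W U₁ U₂ C₁ C₂ CW : Scheme.{u}} (j₁ : W ⟶ U₁) (j₂ : W ⟶ U₂) [IsOpenImmersion j₁]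
    [IsOpenImmersion j₂] (f₁ : C₁ ⟶ U₁) (f₂ : C₂ ⟶ U₂) (k₁ : CW ⟶ C₁) (k₂ : CW ⟶ C₂) (fW : CW ⟶ W)
    (h₁ : IsPullback k₁ fW f₁ j₁) (h₂ : IsPullback k₂ fW f₂ j₂) :
    ∃ (T : Scheme.{u}) (i₁ : U₁ ⟶ T) (i₂ : U₂ ⟶ T) (C : Scheme.{u}) (f : C ⟶ T) (c₁ : C₁ ⟶ C) (c₂ : C₂ ⟶ C),
      IsOpenImmersion i₁ ∧ IsOpenImmersion i₂ ∧ IsPushout j₁ j₂ i₁ i₂ ∧ IsPullback j₁ j₂ i₁ i₂ ∧
      (∀ b : T, b ∈ Set.range i₁ ∨ b ∈ Set.range i₂) ∧ IsPullback c₁ f₁ f i₁ ∧ IsPullback c₂ f₂ f i₂ := by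
  obtain ⟨T, i₁, i₂, hi₁, hi₂, hpo, hpb, hs⟩ := K552.Double.exists_pushout j₁ j₂
  have hk₁ : IsOpenImmersion k₁ := MorphismProperty.of_isPullback (P := @IsOpenImmersion) h₁.flip ‹_›
  have hk₂ : IsOpenImmersion k₂ := MorphismProperty.of_isPullback (P := @IsOpenImmersion) h₂.flip ‹_›
  obtain ⟨C, c₁, c₂, hc₁, hc₂, hpoC, hpbC, hsC⟩ := K552.Double.exists_pushout k₁ k₂
  obtain ⟨f, hf₁, hf₂⟩ : ∃ f : C ⟶ T, c₁ ≫ f = f₁ ≫ i₁ ∧ c₂ ≫ f = f₂ ≫ i₂ := by
    refine ⟨hpoC.desc (f₁ ≫ i₁) (f₂ ≫ i₂) ?_, hpoC.inl_desc _ _ _, hpoC.inr_desc _ _ _⟩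
    rw [reassoc_of% h₁.w, reassoc_of% h₂.w, hpo.w]
  refine ⟨T, i₁, i₂, C, f, c₁, c₂, hi₁, hi₂, hpo, hpb, hs, ?_, ?_⟩
  · refine isPullback_of_open hf₁ fun x y hxy => ?_
    rcases hsC x with h | ⟨x₂, rfl⟩
    · exact h
    · have e1 : i₁ y = i₂ (f₂ x₂) := by
        rw [← hxy, ← Scheme.Hom.comp_apply, hf₂, Scheme.Hom.comp_apply]
      obtain ⟨v, hv1, hv2⟩ := exists_pt hpb _ _ e1
      obtain ⟨z, hz1, hz2⟩ := exists_pt h₂ x₂ v hv2.symm
      refine ⟨k₁ z, ?_⟩
      rw [← hz1, ← Scheme.Hom.comp_apply, ← Scheme.Hom.comp_apply, hpoC.w]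
  · refine isPullback_of_open hf₂ fun x y hxy => ?_
    rcases hsC x with ⟨x₁, rfl⟩ | h
    · have e1 : i₁ (f₁ x₁) = i₂ y := by
        rw [← hxy, ← Scheme.Hom.comp_apply, ← Scheme.Hom.comp_apply, hf₁]
      obtain ⟨v, hv1, hv2⟩ := exists_pt hpb _ _ e1
      obtain ⟨z, hz1, hz2⟩ := exists_pt h₁ x₁ v hv1.symm
      refine ⟨k₂ z, ?_⟩
      rw [← hz1, ← Scheme.Hom.comp_apply, ← Scheme.Hom.comp_apply, hpoC.w]
    · exact h

/-- the empty family of sections -/
abbrev IsStable (g : ℕ) {C T : Scheme.{u}} (f : C ⟶ T) : Prop :=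
  CurvSt.IsStableFam f (fun j : Fin 0 => j.elim0) (fun j : Fin 0 => j.elim0) g

/-- The condition on a geometric fibre. -/
def IsStableFib (g : ℕ) {Ω : Type u} [Field Ω] [IsAlgClosed Ω] (X : Scheme.{u}) (q : X ⟶ Spec (CommRingCat.of Ω)) :
    Prop :=
  CurvSt.IsStablePtd Ω X q g (fun j : Fin 0 => (j.elim0 : X))

theorem isStable_iff {g : ℕ} {C T : Scheme.{u}} {f : C ⟶ T} : IsStable g f ↔
    Flat f ∧ IsProper f ∧ LocallyOfFinitePresentation f ∧
    ∀ (Ω : Type u) [Field Ω] [IsAlgClosed Ω] (t : Spec (CommRingCat.of Ω) ⟶ T) (X : Scheme.{u}) (i : X ⟶ C)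
      (q : X ⟶ Spec (CommRingCat.of Ω)), IsPullback i q f t → IsStableFib g X q := by
  have key : ∀ (Ω : Type u) [Field Ω] [IsAlgClosed Ω] (t : Spec (CommRingCat.of Ω) ⟶ T) (X : Scheme.{u}) (i : X ⟶ C)
      (q : X ⟶ Spec (CommRingCat.of Ω)) (hP : IsPullback i q f t),
      CurvSt.IsStablePtd Ω X q g (CurvSt.markedPt (fun j : Fin 0 => j.elim0) (fun j : Fin 0 => j.elim0) hP) ↔
        IsStableFib g X q := by
    intro Ω _ _ t X i q hP
    have e : CurvSt.markedPt (fun j : Fin 0 => (j.elim0 : T ⟶ C)) (fun j : Fin 0 => j.elim0) hP =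
        (fun j : Fin 0 => (j.elim0 : X)) := funext fun j => j.elim0
    rw [e, IsStableFib]
  constructor
  · rintro ⟨h1, h2, h3, h4⟩
    exact ⟨h1, h2, h3, fun Ω _ _ t X i q hP => (key Ω t X i q hP).1 (h4 Ω t X i q hP)⟩
  · rintro ⟨h1, h2, h3, h4⟩
    exact ⟨h1, h2, h3, fun Ω _ _ t X i q hP => (key Ω t X i q hP).2 (h4 Ω t X i q hP)⟩

/-- A geometric point factors through an open subscheme containing its image. -/
theorem exists_lift_point {Ω : Type u} [Field Ω] {U T : Scheme.{u}} (i : U ⟶ T) [IsOpenImmersion i]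
    (t : Spec (CommRingCat.of Ω) ⟶ T) (h : t (IsLocalRing.closedPoint Ω) ∈ Set.range i) :
    ∃ t' : Spec (CommRingCat.of Ω) ⟶ U, t' ≫ i = t := by
  refine ⟨IsOpenImmersion.lift i t ?_, IsOpenImmersion.lift_fac _ _ _⟩
  rintro _ ⟨x, rfl⟩
  rwa [Subsingleton.elim x (IsLocalRing.closedPoint Ω)]

/-- The glued family is stable. -/
theorem isStable_of_two {g : ℕ} {U₁ U₂ C₁ C₂ T C : Scheme.{u}} {i₁ : U₁ ⟶ T} {i₂ : U₂ ⟶ T} {f : C ⟶ T}
    {f₁ : C₁ ⟶ U₁} {f₂ : C₂ ⟶ U₂} {c₁ : C₁ ⟶ C} {c₂ : C₂ ⟶ C} [IsOpenImmersion i₁] [IsOpenImmersion i₂]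
    (hs : ∀ b : T, b ∈ Set.range i₁ ∨ b ∈ Set.range i₂) (h₁ : IsPullback c₁ f₁ f i₁) (h₂ : IsPullback c₂ f₂ f i₂)
    (hf₁ : IsStable g f₁) (hf₂ : IsStable g f₂) : IsStable g f := by
  rw [isStable_iff] at hf₁ hf₂ ⊢
  obtain ⟨a1, a2, a3, a4⟩ := hf₁
  obtain ⟨b1, b2, b3, b4⟩ := hf₂
  let 𝒰 : T.OpenCover :=
    { I₀ := ULift.{u} Bool
      X := fun b => match b.down with
        | true => U₁
        | false => U₂
      f := fun b => match b with
        | ⟨true⟩ => i₁
        | ⟨false⟩ => i₂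
      mem₀ := by
        rw [Scheme.presieve₀_mem_precoverage_iff]
        refine ⟨fun x ↦ ?_, ?_⟩
        · rcases hs x with h | h
          · exact ⟨⟨true⟩, h⟩
          · exact ⟨⟨false⟩, h⟩
        · rintro (_ | _) <;> infer_instance }
  have key : ∀ (P : MorphismProperty Scheme.{u}) [IsZariskiLocalAtTarget P], P f₁ → P f₂ → P f := by
    intro P _ k1 k2
    refine IsZariskiLocalAtTarget.of_openCover 𝒰 ?_
    rintro (_ | _)
    · change P (pullback.snd f i₂)
      rw [← h₂.isoPullback_inv_snd]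
      exact (MorphismProperty.cancel_left_of_respectsIso P _ _).2 k2
    · change P (pullback.snd f i₁)
      rw [← h₁.isoPullback_inv_snd]
      exact (MorphismProperty.cancel_left_of_respectsIso P _ _).2 k1
  refine ⟨key @Flat a1 b1, key @IsProper a2 b2, key @LocallyOfFinitePresentation a3 b3, ?_⟩
  intro Ω _ _ t X i q hP
  rcases hs (t (IsLocalRing.closedPoint Ω)) with h | h
  · obtain ⟨t', rfl⟩ := exists_lift_point i₁ t h
    exact a4 Ω t' X (h₁.lift i (q ≫ t') (by rw [hP.w, Category.assoc])) q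
      (IsPullback.of_right (by rw [h₁.lift_fst]; exact hP) (h₁.lift_snd _ _ _) h₁)
  · obtain ⟨t', rfl⟩ := exists_lift_point i₂ t h
    exact b4 Ω t' X (h₂.lift i (q ≫ t') (by rw [hP.w, Category.assoc])) q
      (IsPullback.of_right (by rw [h₂.lift_fst]; exact hP) (h₂.lift_snd _ _ _) h₂)

end K641.HurwAsm

section

open CategoryTheory CategoryTheory.Limits AlgebraicGeometry IsLocalRing

namespace K641.HurwAsm

open Groth.Agent

theorem smooth_of_closed_fibre {R : Type u} [CommRing R] [IsLocalRing R] {Y : Scheme.{u}}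
    (q : Y ⟶ Spec (CommRingCat.of R)) [Flat q] [IsProper q] [LocallyOfFinitePresentation q]
    {k : Type u} [Field k] (π : R →+* k) [IsLocalHom π] {Y₀ : Scheme.{u}} {j : Y₀ ⟶ Y}
    {r : Y₀ ⟶ Spec (CommRingCat.of k)} (h : IsPullback j r q (Spec.map (CommRingCat.ofHom π))) (hr : Smooth r) :
    Smooth q := by
  rw [← Scheme.Hom.smoothLocus_eq_top_iff]
  have h1 : ∀ y : Y, q y = closedPoint R → y ∈ q.smoothLocus := by
    intro y hy
    have e : (Spec.map (CommRingCat.ofHom π)) (closedPoint k) = closedPoint R := by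
      exact IsLocalRing.comap_closedPoint π
    obtain ⟨y₀, rfl, -⟩ := exists_pt h y (closedPoint k) (hy.trans e.symm)
    refine (Smoothlim.SmoothLocusBC.mem_smoothLocus_iff_of_isPullback h y₀ (Or.inl (Flat.stalkMap q (j y₀)))).1 ?_
    rw [(Scheme.Hom.smoothLocus_eq_top_iff (f := r)).2 hr]
    trivial
  by_contra hne
  obtain ⟨y, hy⟩ : ∃ y : Y, y ∉ q.smoothLocus := by
    by_contra hall
    push Not at hall
    exact hne (eq_top_iff.2 fun y _ => hall y)
  have h2 : IsClosed (q '' ((q.smoothLocus : Set Y)ᶜ)) := q.isClosedMap _ q.smoothLocus.isOpen.isClosed_compl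
  have h3 : closedPoint R ∈ q '' ((q.smoothLocus : Set Y)ᶜ) := by
    have hs : (q y) ⤳ closedPoint R := IsLocalRing.specializes_closedPoint _
    exact hs.mem_closed h2 ⟨y, hy, rfl⟩
  obtain ⟨z, hz1, hz2⟩ := h3
  exact hz1 (h1 z hz2)

/-- A smooth connected scheme over a field is irreducible. -/
theorem irreducibleSpace_of_smooth {k : Type u} [Field k] {X : Scheme.{u}} (f : X ⟶ Spec (CommRingCat.of k))
    [Smooth f] [ConnectedSpace X] : IrreducibleSpace X := by
  have h1 : IsLocallyNoetherian X := LocallyOfFiniteType.isLocallyNoetherian f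
  have : IsIntegral X := by
    rw [Groth.Agent.Ega1.GenPts.isIntegral_iff]
    exact ⟨inferInstance, fun x => (Groth.Agent.Sga4B.SmoothNormal.isNormalScheme_of_smooth f x).1⟩
  infer_instance

theorem isCurveOfGenus_of_smooth {g : ℕ} {C T : Scheme.{u}} {f : C ⟶ T} (h : IsStable g f) (hs : Smooth f) :
    ModFun.IsCurveOfGenus g f := by
  rw [isStable_iff] at h
  obtain ⟨h1, h2, h3, h4⟩ := h
  refine ⟨hs, h2, ⟨fun K _ y Z fst snd hZ => ?_⟩, fun Ω _ _ t X i q hP => ?_⟩
  · let Ω := AlgebraicClosure K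
    let b : Spec (CommRingCat.of Ω) ⟶ Spec (CommRingCat.of K) := Spec.map (CommRingCat.ofHom (algebraMap K Ω))
    have hb : Surjective b := inferInstance
    have sq := IsPullback.of_hasPullback snd b
    have sq' := sq.paste_horiz hZ
    obtain ⟨a1, a2, -⟩ := h4 Ω (b ≫ y) _ _ _ sq'
    have : ConnectedSpace (pullback snd b : Scheme.{u}) := a2
    have : Smooth (pullback.snd snd b) := MorphismProperty.of_isPullback sq' hs
    have : IrreducibleSpace (pullback snd b : Scheme.{u}) := irreducibleSpace_of_smooth (pullback.snd snd b)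
    have hsurj : Surjective (pullback.fst snd b) := MorphismProperty.of_isPullback sq.flip hb
    exact hsurj.surj.irreducibleSpace (pullback.fst snd b).continuous
  · obtain ⟨-, -, b3, b4, -⟩ := h4 Ω t X i q hP
    exact ⟨b3, b4.2⟩

theorem curve_facts {g : ℕ} {K : Type u} [Field K] {C : Scheme.{u}} {f : C ⟶ Spec (CommRingCat.of K)}
    (h : ModFun.IsCurveOfGenus g f) :
    Curve.IsSmoothProperCurve K C f ∧ IsIso f.appTop ∧ Models.curveGenus K C f = g := by
  have h1 : Smooth f := h.1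
  have h2 : IsProper f := h.2.1
  have h3 : GeometricallyIrreducible f := h.2.2.1
  have h4 : GeometricallyConnected f := K995.CurveBasic.geometricallyConnected f
  refine ⟨⟨h2, h1, K995.CurveBasic.isIntegral h, K995.CurveBasic.dim_eq_one h⟩,
    K380.NormBC.isIso_appTop_of_smooth f, K995.CurveBasic.h1_eq h⟩

theorem smooth_spec {k D : Type u} [Field k] [PerfectField k] [CommRing D] [IsDedekindDomain D] [Algebra k D]
    [Algebra.FiniteType k D] : Smooth (Spec.map (CommRingCat.ofHom (algebraMap k D))) := by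
  have : LocallyOfFiniteType (Spec.map (CommRingCat.ofHom (algebraMap k D))) := by
    rw [HasRingHomProperty.Spec_iff (P := @LocallyOfFiniteType)]
    exact RingHom.finiteType_algebraMap.mpr inferInstance
  refine Groth.Agent.Ega2.SmoothBdry.smooth_of_regular _ fun x => ?_
  let e := (AlgebraicGeometry.Spec.stalkIso (CommRingCat.of D) x).commRingCatIsoToRingEquiv
  have : IsRegularLocalRing (Localization.AtPrime x.asIdeal) := inferInstance
  exact IsRegularLocalRing.of_ringEquiv e.symm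

end K641.HurwAsm

end
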