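import Mathlib.RingTheory.Unramified.LocalStructure
import Mathlib.RingTheory.Etale.Basic
import Mathlib.RingTheory.Etale.QuasiFinite
import Mathlib.RingTheory.Valuation.LocalSubring
import Mathlib.RingTheory.DedekindDomain.IntegralClosure
import Mathlib.RingTheory.DedekindDomain.Dvr
import Mathlib.RingTheory.Jacobson.Ring
import Mathlib.FieldTheory.IsAlgClosed.Basic
import Mathlib.RingTheory.Flat.TorsionFree
import Mathlib.RingTheory.Localization.AtPrime.Basic
import Groth.Agent.CurvSt.K641.HurwGlue
import Mathlib.RingTheory.DedekindDomain.Factorization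
import Mathlib.RingTheory.DiscreteValuationRing.TFAE

/-!
# Commutative algebra for the assembly of the family over a curve

* `isLocalization_of_dom`: a local ring between a Dedekind domain and its fraction field is a localization.
* `exists_ratPt`: rational points over an algebraically closed field.
* `exists_val`: a valuation ring dominating the local ring of an etale `k[X]`-algebra at a rational point.

# Open subschemes of the spectrum of a Dedekind domain

* `exists_open_nhd`: a neighbourhood of a point which meets the complement of a given nonempty open in that point only.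
* `dim_of_two`, `connected_of_two`.
-/

set_option autoImplicit false
universe u
open Polynomial IsLocalRing

namespace K641.HurwAsm

/-- A local ring between a Dedekind domain and its fraction field is a localization at a prime. -/
theorem isLocalization_of_dom {D O K : Type*} [CommRing D] [IsDedekindDomain D] [Field K] [Algebra D K]
    [IsFractionRing D K] [CommRing O] [IsLocalRing O] [Algebra D O] [Algebra O K] [IsScalarTower D O K]
    (hinj : Function.Injective (algebraMap O K)) (p : Ideal D) [p.IsPrime]
    (hp : (maximalIdeal O).comap (algebraMap D O) = p) (h0 : p ≠ ⊥) : IsLocalization.AtPrime O p := by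
  have hu : ∀ s : D, s ∉ p → IsUnit (algebraMap D O s) := by
    intro s hs
    by_contra h
    exact hs (hp ▸ h)
  have hnu : ∀ s : D, IsUnit (algebraMap D O s) → s ∉ p := by
    intro s hs h
    rw [← hp] at h
    exact h hs
  have hDK : Function.Injective (algebraMap D K) := IsFractionRing.injective D K
  have hDO : Function.Injective (algebraMap D O) := by
    intro a b h
    apply hDK
    rw [IsScalarTower.algebraMap_apply D O K, IsScalarTower.algebraMap_apply D O K, h]
  have : IsDiscreteValuationRing (Localization.AtPrime p) :=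
    IsLocalization.AtPrime.isDiscreteValuationRing_of_dedekind_domain D h0 _
  have key : ∀ x : O, ∃ a s : D, s ∉ p ∧ x * algebraMap D O s = algebraMap D O a := by
    intro x
    obtain ⟨a, b, hb, hab⟩ := IsFractionRing.div_surjective (A := D) (algebraMap O K x)
    have hb0 : algebraMap D K b ≠ 0 := by
      intro h
      exact nonZeroDivisors.ne_zero hb (hDK (by rw [h, map_zero]))
    have hx : x * algebraMap D O b = algebraMap D O a := by
      apply hinj
      rw [map_mul, ← IsScalarTower.algebraMap_apply, ← IsScalarTower.algebraMap_apply, ← hab,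
        div_mul_cancel₀ _ hb0]
    -- compare `a` and `b` in the valuation ring
    rcases ValuationRing.cond (algebraMap D (Localization.AtPrime p) a) (algebraMap D (Localization.AtPrime p) b)
      with ⟨c, hc | hc⟩
    · -- `b = a c`
      obtain ⟨⟨c', s⟩, hs⟩ := IsLocalization.surj p.primeCompl c
      have h1 : a * c' = b * s := by
        apply IsLocalization.injective (Localization.AtPrime p) p.primeCompl_le_nonZeroDivisors
        rw [map_mul, map_mul, ← hs, ← hc]
        ring
      have hs' : (s : D) ∉ p := s.2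
      by_cases hb1 : b = 0
      · exact absurd hb1 (nonZeroDivisors.ne_zero hb)
      -- `x c' = s`?  from `x b = a` and `a c' = b s`
      have h4 : algebraMap D K (s : D) = algebraMap O K x * algebraMap D K c' := by
        have e1 : algebraMap D K a * algebraMap D K c' = algebraMap D K b * algebraMap D K (s : D) := by
          rw [← map_mul, h1, map_mul]
        have e2 : algebraMap O K x * algebraMap D K b = algebraMap D K a := by
          rw [← hab, div_mul_cancel₀ _ hb0]
        apply mul_left_cancel₀ hb0
        rw [← e1, ← e2]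
        ring
      have h5 : x * algebraMap D O c' = algebraMap D O s := by
        apply hinj
        rw [map_mul, ← IsScalarTower.algebraMap_apply, ← IsScalarTower.algebraMap_apply, h4]
      have h6 : IsUnit (algebraMap D O c') := by
        have := hu s hs'
        rw [← h5] at this
        exact isUnit_of_mul_isUnit_right this
      exact ⟨s, c', hnu _ h6, h5⟩
    · -- `a = b c`
      obtain ⟨⟨c', s⟩, hs⟩ := IsLocalization.surj p.primeCompl c
      have h1 : b * c' = a * s := by
        apply IsLocalization.injective (Localization.AtPrime p) p.primeCompl_le_nonZeroDivisors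
        rw [map_mul, map_mul, ← hs, ← hc]
        ring
      refine ⟨c', s, s.2, ?_⟩
      apply hinj
      have e1 : algebraMap D K b * algebraMap D K c' = algebraMap D K a * algebraMap D K (s : D) := by
        rw [← map_mul, h1, map_mul]
      have e2 : algebraMap O K x * algebraMap D K b = algebraMap D K a := by
        rw [← hab, div_mul_cancel₀ _ hb0]
      rw [map_mul, ← IsScalarTower.algebraMap_apply, ← IsScalarTower.algebraMap_apply]
      apply mul_left_cancel₀ hb0
      rw [e1, ← e2]
      ring
  refine ⟨fun s => hu s s.2, fun x => ?_, fun {x y} h => ⟨1, by rw [hDO h]⟩⟩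
  obtain ⟨a, s, hs, h⟩ := key x
  exact ⟨⟨a, s, hs⟩, h⟩

/-- Rational points over an algebraically closed field. -/
theorem exists_ratPt {k D O : Type u} [Field k] [IsAlgClosed k] [CommRing D] [Algebra k D] [Algebra.FiniteType k D]
    [CommRing O] [IsLocalRing O] [Algebra k O] [Algebra D O] [IsScalarTower k D O] (p : Ideal D) [hpm : p.IsMaximal]
    [IsLocalization.AtPrime O p] : ∃ π : O →ₐ[k] k, RingHom.ker π.toRingHom = maximalIdeal O := by
  have hcomap : (maximalIdeal O).comap (algebraMap D O) = p := IsLocalization.AtPrime.under_maximalIdeal O p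
  let _ : Field (D ⧸ p) := Ideal.Quotient.field p
  have : Algebra.FiniteType k (D ⧸ p) := inferInstance
  have : Module.Finite k (D ⧸ p) := finite_of_finite_type_of_isJacobsonRing k (D ⧸ p)
  have hb : Function.Bijective (algebraMap k (D ⧸ p)) := IsAlgClosed.algebraMap_bijective_of_isIntegral
  have hres : ∀ x : D, ∃ c : k, x - algebraMap k D c ∈ p := by
    intro x
    obtain ⟨c, hc⟩ := hb.2 (Ideal.Quotient.mk p x)
    refine ⟨c, ?_⟩
    rw [← Ideal.Quotient.eq, ← hc]
    rfl
  have hk : Function.Bijective (algebraMap k (ResidueField O)) := by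
    refine ⟨(algebraMap k (ResidueField O)).injective, fun y => ?_⟩
    obtain ⟨y, rfl⟩ := residue_surjective y
    obtain ⟨⟨a, s⟩, h⟩ := IsLocalization.surj p.primeCompl y
    obtain ⟨α, hα⟩ := hres a
    obtain ⟨σ, hσ⟩ := hres s
    have hm : ∀ x ∈ p, algebraMap D O x ∈ maximalIdeal O := fun x hx => by
      rw [← hcomap] at hx
      exact hx
    have e1 : residue O (algebraMap D O a) = algebraMap k (ResidueField O) α := by
      have := hm _ hα
      rw [map_sub, ← residue_eq_zero_iff, map_sub, sub_eq_zero] at this
      rw [this, ← IsScalarTower.algebraMap_apply]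
      rfl
    have e2 : residue O (algebraMap D O s) = algebraMap k (ResidueField O) σ := by
      have := hm _ hσ
      rw [map_sub, ← residue_eq_zero_iff, map_sub, sub_eq_zero] at this
      rw [this, ← IsScalarTower.algebraMap_apply]
      rfl
    have hσ0 : σ ≠ 0 := by
      rintro rfl
      rw [map_zero, residue_eq_zero_iff] at e2
      have h1 : (s : D) ∈ (maximalIdeal O).comap (algebraMap D O) := e2
      have : (s : D) ∈ p := by
        rwa [hcomap] at h1
      exact s.2 this
    have h' := congrArg (residue O) h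
    simp only [map_mul] at h'
    rw [e1, e2] at h'
    refine ⟨α / σ, ?_⟩
    have hσ1 : algebraMap k (ResidueField O) σ ≠ 0 := by
      rw [Ne, map_eq_zero]
      exact hσ0
    rw [map_div₀, ← h', mul_div_cancel_right₀ _ hσ1]
  let e : k ≃ₐ[k] ResidueField O := AlgEquiv.ofBijective (Algebra.ofId k (ResidueField O)) hk
  refine ⟨e.symm.toAlgHom.comp (IsScalarTower.toAlgHom k O (ResidueField O)), ?_⟩
  ext x
  rw [RingHom.mem_ker]
  change e.symm (residue O x) = 0 ↔ _
  rw [EmbeddingLike.map_eq_zero_iff, residue_eq_zero_iff]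

/-- Two `k`-algebra maps to `k` with comparable kernels agree. -/
theorem algHom_eq {k R : Type*} [Field k] [CommRing R] [Algebra k R] (f g : R →ₐ[k] k)
    (h : RingHom.ker f.toRingHom ≤ RingHom.ker g.toRingHom) : f = g := by
  ext r
  have h1 : r - algebraMap k R (f r) ∈ RingHom.ker f.toRingHom := by
    rw [RingHom.mem_ker]
    change f (r - algebraMap k R (f r)) = 0
    rw [map_sub, f.commutes, Algebra.algebraMap_self, RingHom.id_apply, sub_self]
  have h2 := h h1
  rw [RingHom.mem_ker] at h2
  change g (r - algebraMap k R (f r)) = 0 at h2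
  rw [map_sub, g.commutes, Algebra.algebraMap_self, RingHom.id_apply, sub_eq_zero] at h2
  exact h2.symm

/-- An etale domain over `k[X]` contains `k[X]` and its fraction field is finite over `k(X)`. -/
theorem injective_of_etale {A R : Type*} [CommRing A] [IsDomain A] [CommRing R] [IsDomain R] [Algebra A R]
    [Module.Flat A R] : Function.Injective (algebraMap A R) := by
  rw [injective_iff_map_eq_zero]
  intro a ha
  by_contra h
  have h2 : IsSMulRegular R a := Module.Flat.isSMulRegular_of_nonZeroDivisors (mem_nonZeroDivisors_of_ne_zero h)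
  have h3 : a • (1 : R) = a • (0 : R) := by rw [Algebra.smul_def, ha, zero_mul, smul_zero]
  exact one_ne_zero (h2 h3)

theorem finite_frac {A R F K : Type u} [CommRing A] [IsDomain A] [CommRing R] [IsDomain R] [Algebra A R]
    [Algebra.Etale A R] [Field F] [Algebra A F] [IsFractionRing A F] [Field K] [Algebra R K] [IsFractionRing R K]
    [Algebra F K] [Algebra A K] [IsScalarTower A R K] [IsScalarTower A F K] : FiniteDimensional F K := by
  have : Algebra.QuasiFinite A R := inferInstance
  have : Algebra.QuasiFinite A K := Algebra.QuasiFinite.of_isLocalization (R := A) (S := R) (nonZeroDivisors R)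
  have : Algebra.QuasiFinite F K := Algebra.QuasiFinite.of_restrictScalars A F K
  exact Module.Finite.of_quasiFinite

/-- A valuation ring dominating the local ring at a rational point. -/
theorem exists_val {k R A K : Type u} [Field k] [CommRing R] [Algebra k R] (ρ : R →ₐ[k] k) [CommRing A]
    [Algebra A R] [Field K] [Algebra A K] (φ : R →ₐ[A] K) (hφ : Function.Injective φ) :
    ∃ V : ValuationSubring K, (∀ d : integralClosure A K, (d : K) ∈ V) ∧ ∃ hR : ∀ r, φ r ∈ V,
      ∀ r, ρ r = 0 → (⟨φ r, hR r⟩ : V) ∈ maximalIdeal V := by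
  have : (RingHom.ker ρ.toRingHom).IsPrime := RingHom.ker_isPrime _
  let q := RingHom.ker ρ.toRingHom
  have hu : ∀ y : q.primeCompl, IsUnit (φ.toRingHom y) := by
    intro y
    rw [isUnit_iff_ne_zero]
    intro h
    have h1 : φ (y : R) = φ 0 := by rw [map_zero]; exact h
    have h2 := hφ h1
    exact y.2 (by rw [h2]; exact zero_mem _)
  let θ : Localization.AtPrime q →+* K := IsLocalization.lift hu
  have hθ : ∀ r, θ (algebraMap R _ r) = φ r := fun r => IsLocalization.lift_eq hu r
  obtain ⟨V, hV, hloc⟩ := IsLocalRing.exists_factor_valuationRing θ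
  have hR : ∀ r, φ r ∈ V := fun r => by rw [← hθ]; exact hV _
  let φV : R →+* V := (θ.codRestrict V.toSubring hV).comp (algebraMap R (Localization.AtPrime q))
  have hφV : ∀ r, (φV r : K) = φ r := hθ
  refine ⟨V, fun d => ?_, hR, fun r hr => ?_⟩
  · let _ : Algebra A V := (φV.comp (algebraMap A R)).toAlgebra
    have : IsScalarTower A V K := IsScalarTower.of_algebraMap_eq fun x => by
      change algebraMap A K x = (φV (algebraMap A R x) : K)
      rw [hφV, φ.commutes]
    have h1 : IsIntegral V (d : K) := IsIntegral.tower_top (R := A) d.2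
    obtain ⟨y, hy⟩ := IsIntegrallyClosed.isIntegral_iff.1 h1
    rw [← hy]
    exact y.2
  · have e : (⟨φ r, hR r⟩ : V) = (θ.codRestrict V.toSubring hV) (algebraMap R _ r) := Subtype.ext (hθ r).symm
    rw [e, mem_maximalIdeal, mem_nonunits_iff]
    intro h
    have h2 : IsUnit (algebraMap R (Localization.AtPrime q) r) := hloc.map_nonunit _ h
    have h3 : r ∈ q := hr
    have h4 : algebraMap R (Localization.AtPrime q) r ∈ maximalIdeal (Localization.AtPrime q) := by
      rw [← Localization.AtPrime.map_eq_maximalIdeal]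
      exact Ideal.mem_map_of_mem _ h3
    exact h4 h2

end K641.HurwAsm

section

open CategoryTheory CategoryTheory.Limits AlgebraicGeometry IsLocalRing

namespace K641.HurwAsm

open Groth.Agent

variable {D : Type u} [CommRing D] [IsDedekindDomain D]

theorem isClosed_of_ne_bot (x : PrimeSpectrum D) (hx : x.asIdeal ≠ ⊥) : IsClosed ({x} : Set (PrimeSpectrum D)) :=
  (PrimeSpectrum.isClosed_singleton_iff_isMaximal x).2 (x.2.isMaximal hx)

theorem finite_compl (W : Set (PrimeSpectrum D)) (hW : IsOpen W) (hne : W.Nonempty) : Wᶜ.Finite ∧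
    ∀ x ∈ Wᶜ, x.asIdeal ≠ ⊥ := by
  have hbot : (⊥ : PrimeSpectrum D) ∈ W := by
    obtain ⟨x, hx⟩ := hne
    have : (⊥ : PrimeSpectrum D) ⤳ x := by
      rw [← PrimeSpectrum.le_iff_specializes]
      exact bot_le
    exact this.mem_open hW hx
  obtain ⟨I, hI⟩ := (PrimeSpectrum.isClosed_iff_zeroLocus_ideal _).1 hW.isClosed_compl
  have hI0 : I ≠ ⊥ := by
    rintro rfl
    have h1 : (⊥ : PrimeSpectrum D) ∈ Wᶜ := by
      rw [hI]
      intro a ha
      have h2 : a = 0 := ha
      rw [h2]
      exact zero_mem _
    exact h1 hbot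
  have hne0 : ∀ x ∈ Wᶜ, x.asIdeal ≠ ⊥ := by
    intro x hx h
    apply hx
    have : x = ⊥ := PrimeSpectrum.ext h
    rw [this]
    exact hbot
  refine ⟨?_, hne0⟩
  have hfin := Ideal.finite_factors hI0
  let F : PrimeSpectrum D → Prop := fun x => x ∈ Wᶜ
  have hsub : Wᶜ ⊆ (fun v : IsDedekindDomain.HeightOneSpectrum D => (⟨v.asIdeal, v.isPrime⟩ : PrimeSpectrum D)) ''
      {v | v.asIdeal ∣ I} := by
    intro x hx
    refine ⟨⟨x.asIdeal, x.2, hne0 x hx⟩, ?_, rfl⟩
    rw [Set.mem_ofPred_eq, Ideal.dvd_iff_le]
    rw [hI] at hx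
    exact hx
  exact (hfin.image _).subset hsub

/-- A neighbourhood of a point which meets the complement of a given nonempty open in that point only. -/
theorem exists_open_nhd {S W : Scheme.{u}} (ι : S ⟶ Spec (CommRingCat.of D)) [IsOpenImmersion ι] (j : W ⟶ S)
    [IsOpenImmersion j] [hW : Nonempty W] (x : S) :
    ∃ U : S.Opens, x ∈ U ∧ (∀ w, j w ∈ U) ∧ ∀ y ∈ U, y = x ∨ y ∈ Set.range j := by
  have hinj : Function.Injective ι := ι.isOpenEmbedding.injective
  obtain ⟨h1, h2⟩ := finite_compl (D := D) (Set.range (j ≫ ι)) (j ≫ ι).isOpenEmbedding.isOpen_range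
    (Set.range_nonempty _)
  have hmem : ∀ y : S, y ∉ Set.range j → ι y ∈ (Set.range (j ≫ ι))ᶜ := by
    rintro y hy ⟨w, hw⟩
    rw [Scheme.Hom.comp_apply] at hw
    exact hy ⟨w, hinj hw⟩
  let Z : Set S := {y | y ∉ Set.range j ∧ y ≠ x}
  have hZf : Z.Finite := by
    refine Set.Finite.of_finite_image (h1.subset ?_) hinj.injOn
    rintro _ ⟨y, hy, rfl⟩
    exact hmem y hy.1
  have hZc : IsClosed Z := by
    rw [← Set.biUnion_of_singleton Z]
    refine hZf.isClosed_biUnion fun y hy => ?_
    have h3 : ({y} : Set S) = ι ⁻¹' {ι y} := by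
      ext z
      constructor
      · rintro rfl
        rfl
      · intro hz
        exact hinj hz
    rw [h3]
    exact (isClosed_of_ne_bot (D := D) (ι y) (h2 _ (hmem y hy.1))).preimage ι.continuous
  refine ⟨⟨Zᶜ, hZc.isOpen_compl⟩, fun h => h.2 rfl, fun w h => h.1 ⟨w, rfl⟩, fun y hy => ?_⟩
  by_contra hcon
  push Not at hcon
  exact hy ⟨hcon.2, hcon.1⟩

theorem ringKrullDim_stalk_of_open {X Y : Scheme.{u}} (f : X ⟶ Y) [IsOpenImmersion f] (x : X) :
    ringKrullDim (Y.presheaf.stalk (f x)) = ringKrullDim (X.presheaf.stalk x) :=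
  ringKrullDim_eq_of_ringEquiv (asIso (f.stalkMap x)).commRingCatIsoToRingEquiv

theorem dim_eq_one_of_open {U : Scheme.{u}} (ι : U ⟶ Spec (CommRingCat.of D)) [IsOpenImmersion ι] (x : U)
    (hx : (ι x : PrimeSpectrum D).asIdeal ≠ ⊥) : topologicalKrullDim U = 1 := by
  have hnf : ¬ IsField D := by
    intro h
    let _ := h.toField
    exact hx (Ideal.eq_bot_of_prime _)
  apply le_antisymm
  · refine (Topology.IsInducing.topologicalKrullDim_le ι.isOpenEmbedding.isInducing).trans ?_
    have h1 : topologicalKrullDim (Spec (CommRingCat.of D)) = ringKrullDim D :=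
      PrimeSpectrum.topologicalKrullDim_eq_ringKrullDim D
    rw [h1]
    exact Ring.krullDimLE_iff.1 inferInstance
  · refine le_trans ?_ (K381.DedFlat.ringKrullDim_stalk_le U x)
    rw [← ringKrullDim_stalk_of_open ι x]
    have e := (AlgebraicGeometry.Spec.stalkIso (CommRingCat.of D) (ι x)).commRingCatIsoToRingEquiv
    rw [ringKrullDim_eq_of_ringEquiv e]
    have : IsDiscreteValuationRing (Localization.AtPrime (ι x : PrimeSpectrum D).asIdeal) :=
      IsLocalization.AtPrime.isDiscreteValuationRing_of_dedekind_domain D hx _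
    exact (IsDiscreteValuationRing.ringKrullDim_eq_one _).ge

theorem dim_of_two {U₁ U₂ T : Scheme.{u}} {i₁ : U₁ ⟶ T} {i₂ : U₂ ⟶ T} [IsOpenImmersion i₁] [IsOpenImmersion i₂]
    (hs : ∀ b : T, b ∈ Set.range i₁ ∨ b ∈ Set.range i₂) (h₁ : topologicalKrullDim U₁ = 1)
    (h₂ : topologicalKrullDim U₂ = 1) : topologicalKrullDim T = 1 := by
  apply le_antisymm
  · rw [K381.DedFlat.topologicalKrullDim_eq_iSup_stalk]
    refine iSup_le fun b => ?_
    rcases hs b with ⟨x, rfl⟩ | ⟨x, rfl⟩
    · rw [ringKrullDim_stalk_of_open, ← h₁]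
      exact K381.DedFlat.ringKrullDim_stalk_le U₁ x
    · rw [ringKrullDim_stalk_of_open, ← h₂]
      exact K381.DedFlat.ringKrullDim_stalk_le U₂ x
  · rw [← h₁]
    exact Topology.IsInducing.topologicalKrullDim_le i₁.isOpenEmbedding.isInducing

theorem connected_of_two {U₁ U₂ T : Scheme.{u}} {i₁ : U₁ ⟶ T} {i₂ : U₂ ⟶ T}
    (hs : ∀ b : T, b ∈ Set.range i₁ ∨ b ∈ Set.range i₂) [ConnectedSpace U₁] [ConnectedSpace U₂] (x₁ : U₁) (x₂ : U₂)
    (h : i₁ x₁ = i₂ x₂) : ConnectedSpace T := by
  rw [connectedSpace_iff_univ]
  have h1 : _root_.IsConnected (Set.range i₁) := isConnected_range i₁.continuous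
  have h2 : _root_.IsConnected (Set.range i₂) := isConnected_range i₂.continuous
  have h3 : _root_.IsConnected (Set.range i₁ ∪ Set.range i₂) := h1.union ⟨i₁ x₁, ⟨x₁, rfl⟩, ⟨x₂, h.symm⟩⟩ h2
  convert h3
  exact (Set.eq_univ_of_forall hs).symm

theorem connected_of_open {U S : Scheme.{u}} (ι : U ⟶ S) [IsOpenImmersion ι] [IrreducibleSpace S] (x : U) :
    ConnectedSpace U := by
  have : Nonempty U := ⟨x⟩
  have : IrreducibleSpace U := ι.isOpenEmbedding.irreducibleSpace
  infer_instance

end K641.HurwAsm

end
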