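import Groth.Agent.CurvSt.K641.HurwCore
import Mathlib.FieldTheory.Perfect

/-!
# HURW-ASM: assembly of the family over a smooth connected curve

* `exists_dvr`: discrete valuation rings over `X = 0` of finite extensions of `k(X)`.
* `main : K760.Hurw.AsmStmt`.
-/

set_option autoImplicit false
set_option backward.isDefEq.respectTransparency false
set_option backward.isDefEq.respectTransparency.types false

open CategoryTheory CategoryTheory.Limits AlgebraicGeometry IsLocalRing Polynomial

universe u

namespace K641.HurwAsm

/-- A discrete valuation ring of a finite extension of `k(X)` over `X = 0`. -/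
theorem exists_dvr {k K₁ F : Type u} [Field k] [CharZero k] [Field K₁] [Algebra k[X] K₁] [Field F] [Algebra k[X] F]
    [IsFractionRing k[X] F] [Algebra F K₁] [IsScalarTower k[X] F K₁] [FiniteDimensional F K₁] :
    ∃ (O : Type u) (_ : CommRing O) (_ : IsDomain O) (_ : IsDiscreteValuationRing O) (_ : Algebra k[X] O)
      (_ : Algebra O K₁) (_ : IsFractionRing O K₁) (_ : IsScalarTower k[X] O K₁),
      algebraMap k[X] O X ∈ maximalIdeal O := by
  have hF : CharZero F := charZero_of_injective_algebraMap (IsFractionRing.injective k[X] F)
  have hsep : Algebra.IsSeparable F K₁ := inferInstance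
  have hded : IsDedekindDomain (integralClosure k[X] K₁) := integralClosure.isDedekindDomain k[X] F K₁
  have hfr : IsFractionRing (integralClosure k[X] K₁) K₁ :=
    integralClosure.isFractionRing_of_finite_extension F K₁
  have hinj : Function.Injective (algebraMap k[X] K₁) := by
    rw [IsScalarTower.algebraMap_eq k[X] F K₁]
    exact (algebraMap F K₁).injective.comp (IsFractionRing.injective k[X] F)
  have hinjD : Function.Injective (algebraMap k[X] (integralClosure k[X] K₁)) := by
    intro x y h
    apply hinj
    rw [IsScalarTower.algebraMap_apply k[X] (integralClosure k[X] K₁) K₁,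
      IsScalarTower.algebraMap_apply k[X] (integralClosure k[X] K₁) K₁, h]
  have : FaithfulSMul k[X] (integralClosure k[X] K₁) := (faithfulSMul_iff_algebraMap_injective _ _).2 hinjD
  have hp : (Ideal.span {(X : k[X])}).IsPrime := (Ideal.span_singleton_prime X_ne_zero).2 prime_X
  obtain ⟨P, hP, hover⟩ : ∃ P : Ideal (integralClosure k[X] K₁), P.IsPrime ∧
      (Ideal.span {(X : k[X])}) ≤ P.comap (algebraMap k[X] (integralClosure k[X] K₁)) := by
    have hmax : (Ideal.span {(X : k[X])}).IsMaximal := hp.isMaximal (by
      rw [Ne, Ideal.span_singleton_eq_bot]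
      exact X_ne_zero)
    obtain ⟨P, hPm, hPo⟩ := Ideal.exists_maximal_ideal_liesOver_of_isIntegral (S := integralClosure k[X] K₁)
      (Ideal.span {(X : k[X])})
    exact ⟨P, hPm.isPrime, hPo.over.le⟩
  have hXP : algebraMap k[X] (integralClosure k[X] K₁) X ∈ P := hover (Ideal.mem_span_singleton_self X)
  have hP0 : P ≠ ⊥ := by
    rintro rfl
    rw [Ideal.mem_bot] at hXP
    exact X_ne_zero (hinjD (by rw [hXP, map_zero]))
  have hdvr : IsDiscreteValuationRing (Localization.AtPrime P) :=
    IsLocalization.AtPrime.isDiscreteValuationRing_of_dedekind_domain _ hP0 _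
  have hu : ∀ y : P.primeCompl, IsUnit ((algebraMap (integralClosure k[X] K₁) K₁) y) := by
    intro y
    rw [isUnit_iff_ne_zero]
    intro h
    have h1 : (y : integralClosure k[X] K₁) = 0 :=
      (IsFractionRing.injective (integralClosure k[X] K₁) K₁) (by rw [h, map_zero])
    exact y.2 (by rw [h1]; exact zero_mem _)
  let _ : Algebra (Localization.AtPrime P) K₁ := (IsLocalization.lift hu).toAlgebra
  have t1 : IsScalarTower (integralClosure k[X] K₁) (Localization.AtPrime P) K₁ :=
    IsScalarTower.of_algebraMap_eq fun x => (IsLocalization.lift_eq hu x).symm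
  have hfr' : IsFractionRing (Localization.AtPrime P) K₁ :=
    IsFractionRing.isFractionRing_of_isDomain_of_isLocalization P.primeCompl (Localization.AtPrime P) K₁
  have t2 : IsScalarTower k[X] (Localization.AtPrime P) K₁ := IsScalarTower.of_algebraMap_eq fun x => by
    rw [IsScalarTower.algebraMap_apply k[X] (integralClosure k[X] K₁) K₁,
      IsScalarTower.algebraMap_apply (integralClosure k[X] K₁) (Localization.AtPrime P) K₁,
      ← IsScalarTower.algebraMap_apply k[X] (integralClosure k[X] K₁) (Localization.AtPrime P)]
  refine ⟨Localization.AtPrime P, inferInstance, inferInstance, hdvr, inferInstance, inferInstance, hfr', t2, ?_⟩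
  rw [IsScalarTower.algebraMap_apply k[X] (integralClosure k[X] K₁) (Localization.AtPrime P)]
  rw [← Localization.AtPrime.map_eq_maximalIdeal]
  exact Ideal.mem_map_of_mem _ hXP

/-- (ASM) -/
theorem main : K760.Hurw.AsmStmt.{u} := by
  intro hred k _ _ _ R _ _ _ _ _ _ ρ 𝒳 Q g hQ hg X₀ q i hi hbad
  have hinjR : Function.Injective (algebraMap k[X] R) := injective_of_etale
  have hinj₁ : Function.Injective (algebraMap k[X] (FractionRing R)) := by
    rw [IsScalarTower.algebraMap_eq k[X] R (FractionRing R)]
    exact (IsFractionRing.injective R (FractionRing R)).comp hinjR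
  have : FaithfulSMul k[X] (FractionRing R) := (faithfulSMul_iff_algebraMap_injective _ _).2 hinj₁
  let _ : Algebra (FractionRing k[X]) (FractionRing R) := FractionRing.liftAlgebra k[X] (FractionRing R)
  have tw₁ : IsScalarTower k[X] (FractionRing k[X]) (FractionRing R) :=
    FractionRing.isScalarTower_liftAlgebra k[X] (FractionRing R)
  have fin₁ : FiniteDimensional (FractionRing k[X]) (FractionRing R) := finite_frac (A := k[X]) (R := R)
  obtain ⟨O, _, _, _, _, _, _, _, hXO⟩ := exists_dvr (k := k) (K₁ := FractionRing R) (F := FractionRing k[X])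
  let ε : FractionRing O ≃ₐ[O] FractionRing R := FractionRing.algEquiv O (FractionRing R)
  let α : R →+* FractionRing O := (ε.symm : FractionRing R →+* FractionRing O).comp (algebraMap R (FractionRing R))
  have hα : Function.Injective α := ε.symm.injective.comp (IsFractionRing.injective R (FractionRing R))
  have hf : ModFun.IsCurveOfGenus g (pullback.snd Q (Spec.map (CommRingCat.ofHom α))) :=
    K995.GenusField.isCurveOfGenus_of_isPullback (IsPullback.of_hasPullback _ _) hQ
  obtain ⟨hf1, hf2, hf3⟩ := curve_facts hf
  obtain ⟨R', _, _, _, φ, ψ, hφ, hψ, hfs, Y, qY, ⟨-, -, -, a, ha⟩, hst⟩ := hred O _ _ hf1 hf2 (by rw [hf3]; exact hg)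
  rw [hf3] at hst
  have hst' : IsStable g qY := hst
  let _ : Algebra k[X] R' := (φ.comp (algebraMap k[X] O)).toAlgebra
  let _ : Algebra k R' := ((algebraMap k[X] R').comp (algebraMap k k[X])).toAlgebra
  have tw₂ : IsScalarTower k k[X] R' := IsScalarTower.of_algebraMap_eq fun x => rfl
  have tw₃ : IsScalarTower k k[X] (FractionRing R') := IsScalarTower.of_algebraMap_eq fun x => by
    rw [IsScalarTower.algebraMap_apply k R' (FractionRing R'),
      IsScalarTower.algebraMap_apply k[X] R' (FractionRing R'), ← IsScalarTower.algebraMap_apply k k[X] R']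
  let γ : FractionRing R →+* FractionRing R' := ψ.comp (ε.symm : FractionRing R →+* FractionRing O)
  have hγ : ∀ x : k[X], γ (algebraMap k[X] (FractionRing R) x) = algebraMap k[X] (FractionRing R') x := by
    intro x
    change ψ (ε.symm (algebraMap k[X] (FractionRing R) x)) = _
    rw [IsScalarTower.algebraMap_apply k[X] O (FractionRing R), ε.symm.commutes]
    have := DFunLike.congr_fun hψ (algebraMap k[X] O x)
    rw [IsScalarTower.algebraMap_apply k[X] R' (FractionRing R')]
    exact this
  have hinj : Function.Injective (algebraMap k[X] (FractionRing R')) := by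
    have e : algebraMap k[X] (FractionRing R') = γ.comp (algebraMap k[X] (FractionRing R)) :=
      RingHom.ext fun x => (hγ x).symm
    rw [e]
    exact γ.injective.comp hinj₁
  let _ : Algebra (FractionRing k[X]) (FractionRing R') :=
    (γ.comp (algebraMap (FractionRing k[X]) (FractionRing R))).toAlgebra
  have tw₄ : IsScalarTower k[X] (FractionRing k[X]) (FractionRing R') := IsScalarTower.of_algebraMap_eq fun x => by
    change _ = γ (algebraMap (FractionRing k[X]) (FractionRing R) (algebraMap k[X] (FractionRing k[X]) x))
    rw [← IsScalarTower.algebraMap_apply, hγ]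
  have fin₂ : FiniteDimensional (FractionRing k[X]) (FractionRing R') := by
    have h1 : (algebraMap (FractionRing k[X]) (FractionRing R)).Finite := RingHom.finite_algebraMap.2 fin₁
    have h2 : (ε.symm : FractionRing R →+* FractionRing O).Finite :=
      RingHom.Finite.of_surjective _ ε.symm.surjective
    have h3 : ψ.Finite := hfs.1
    have h4 := (h3.comp h2).comp h1
    exact RingHom.finite_algebraMap.1 h4
  have hF : CharZero (FractionRing k[X]) := charZero_of_injective_algebraMap (IsFractionRing.injective k[X] _)
  have hsep : Algebra.IsSeparable (FractionRing k[X]) (FractionRing R') := inferInstance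
  have hded : IsDedekindDomain (integralClosure k[X] (FractionRing R')) :=
    integralClosure.isDedekindDomain k[X] (FractionRing k[X]) (FractionRing R')
  have hfr : IsFractionRing (integralClosure k[X] (FractionRing R')) (FractionRing R') :=
    integralClosure.isFractionRing_of_finite_extension (FractionRing k[X]) (FractionRing R')
  have hfin : Module.Finite k[X] (integralClosure k[X] (FractionRing R')) :=
    IsIntegralClosure.finite k[X] (FractionRing k[X]) (FractionRing R') _
  have tw₅ : IsScalarTower k k[X] (integralClosure k[X] (FractionRing R')) := inferInstance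
  have hft : Algebra.FiniteType k (integralClosure k[X] (FractionRing R')) := Algebra.FiniteType.trans (S := k[X])
    inferInstance inferInstance
  have hX' : algebraMap k[X] R' X ∈ maximalIdeal R' := by
    change φ (algebraMap k[X] O X) ∈ maximalIdeal R'
    intro hu
    exact hXO (hφ.2.map_nonunit _ hu)
  let φR : R →ₐ[k[X]] FractionRing R' := { ψ.comp α with
    commutes' := fun x => by
      change ψ (ε.symm (algebraMap R (FractionRing R) (algebraMap k[X] R x))) = _
      rw [← IsScalarTower.algebraMap_apply k[X] R (FractionRing R)]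
      exact hγ x }
  have hφR : Function.Injective φR := ψ.injective.comp hα
  have hc := (IsPullback.of_hasPullback (pullback.snd Q (Spec.map (CommRingCat.ofHom α)))
    (Spec.map (CommRingCat.ofHom ψ))).paste_horiz (IsPullback.of_hasPullback Q (Spec.map (CommRingCat.ofHom α)))
  rw [← Spec.map_comp, ← CommRingCat.ofHom_comp] at hc
  obtain ⟨π, hπ, T, p, s, t, C, f, i', h1, h2, h3, h4, h5, h6, h7, h8⟩ :=
    main₂ (D := integralClosure k[X] (FractionRing R')) ρ hinj hX' φR hφR Q hg hQ hi qY hst' ha hc
  refine ⟨T, p, s, t, C, f, i', h1, h2, h3, h4, h5, h6, h7, fun Y₀ j r hj hr => ?_⟩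
  obtain ⟨j', hj'⟩ := h8 Y₀ j r hj
  have hY' := isStable_iff.1 hst'
  have hY1 : Flat qY := hY'.1
  have hY2 : IsProper qY := hY'.2.1
  have hY3 : LocallyOfFinitePresentation qY := hY'.2.2.1
  have hsm : Smooth qY := smooth_of_closed_fibre qY π.toRingHom hj' hr
  refine hbad R' π (ψ.comp α) hφR (fun c => ?_) ⟨algebraMap k[X] R' X, hX', ?_⟩ Y qY
    (isCurveOfGenus_of_smooth hst' hsm) _ a _ _ ha hc
  · have := φR.commutes (algebraMap k k[X] c)
    rw [← IsScalarTower.algebraMap_apply k k[X] R, ← IsScalarTower.algebraMap_apply k k[X],
      IsScalarTower.algebraMap_apply k R' (FractionRing R')] at this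
    exact this
  · have := φR.commutes X
    rw [IsScalarTower.algebraMap_apply k[X] R' (FractionRing R')] at this
    exact this

end K641.HurwAsm
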