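import Groth.Agent.CurvSt.K641.HurwSpread
import Groth.Agent.CurvSt.K641.HurwAlg
import Groth.Agent.EssDim.K995.GenusField

/-!
# The family over a curve: the core

* `exists_factor`, `exists_lift_local`: points of an open subscheme over the closed point of a localization.
* `core`: glueing of a smooth family over an affine open of a Dedekind scheme and a stable family over a local ring.

# The family over a curve, from a stable model over a discrete valuation ring of its function field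

* `exists_hom`: the integral closure maps to integrally closed rings.
* `main₂`
-/

set_option autoImplicit false
set_option backward.isDefEq.respectTransparency false
set_option backward.isDefEq.respectTransparency.types false

open CategoryTheory CategoryTheory.Limits AlgebraicGeometry Opposite IsLocalRing
open Groth.Agent.Sga1 Groth.Agent.Sga1.SectionSpread
open K150.IndOpen

universe u

namespace K641.HurwAsm

/-- A field valued point over the closed point of a localization factors through it. -/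
theorem exists_factor {D O B Ω : Type u} [CommRing D] [CommRing O] [IsLocalRing O] [Algebra D O] [CommRing B]
    [Algebra D B] [IsOpenImmersion (str D B)] (t' : Ideal D) [t'.IsPrime] [IsLocalization.AtPrime O t']
    (χ : B →ₐ[D] O) [Field Ω] (τ : Spec (CommRingCat.of Ω) ⟶ Spec (CommRingCat.of B))
    (h : τ (closedPoint Ω) = (sp χ) (closedPoint O)) :
    ∃ γ : Spec (CommRingCat.of Ω) ⟶ Spec (CommRingCat.of O), γ ≫ sp χ = τ := by
  obtain ⟨v, rfl⟩ : ∃ v : B →+* Ω, Spec.map (CommRingCat.ofHom v) = τ := by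
    obtain ⟨v, hv⟩ := Spec.map_surjective τ
    exact ⟨v.hom, hv⟩
  have h1 : (closedPoint Ω).asIdeal.comap v = (closedPoint O).asIdeal.comap χ.toRingHom :=
    congrArg PrimeSpectrum.asIdeal h
  have hu : ∀ s : t'.primeCompl, IsUnit ((v.comp (algebraMap D B)) s) := by
    intro s
    rw [isUnit_iff_ne_zero]
    intro h0
    have h2 : algebraMap D B s ∈ (closedPoint Ω).asIdeal.comap v := by
      rw [Ideal.mem_comap]
      have h0' : v (algebraMap D B s) = 0 := h0
      rw [h0']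
      exact zero_mem _
    rw [h1, Ideal.mem_comap] at h2
    have h3 : χ.toRingHom (algebraMap D B s) = algebraMap D O s := χ.commutes _
    rw [h3] at h2
    have h4 : IsUnit (algebraMap D O s) := IsLocalization.map_units O s
    exact h2 h4
  let γ : O →+* Ω := IsLocalization.lift hu
  refine ⟨Spec.map (CommRingCat.ofHom γ), ?_⟩
  rw [← cancel_mono (str D B)]
  change (Spec.map _ ≫ Spec.map _) ≫ Spec.map _ = Spec.map _ ≫ Spec.map _
  rw [← Spec.map_comp, ← CommRingCat.ofHom_comp, ← Spec.map_comp, ← CommRingCat.ofHom_comp, ← Spec.map_comp,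
    ← CommRingCat.ofHom_comp]
  congr 2
  ext x
  change γ (χ (algebraMap D B x)) = v (algebraMap D B x)
  rw [χ.commutes]
  exact IsLocalization.lift_eq hu x

/-- The spectrum of a local ring factors through every neighbourhood of the image of the closed point. -/
theorem exists_lift_local {O : Type u} [CommRing O] [IsLocalRing O] {S : Scheme.{u}}
    (f : Spec (CommRingCat.of O) ⟶ S) (U : S.Opens) (h : f (closedPoint O) ∈ U) :
    ∃ l : Spec (CommRingCat.of O) ⟶ U, l ≫ U.ι = f := by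
  refine ⟨IsOpenImmersion.lift U.ι f ?_, IsOpenImmersion.lift_fac _ _ _⟩
  rintro _ ⟨x, rfl⟩
  rw [Scheme.Opens.range_ι]
  have h1 : x ⤳ closedPoint O := IsLocalRing.specializes_closedPoint _
  exact (h1.map f.continuous).mem_open U.isOpen h

theorem isStable_of_isCurveOfGenus {g : ℕ} (hg : 2 ≤ g) {C T : Scheme.{u}} {f : C ⟶ T}
    (h : ModFun.IsCurveOfGenus g f) : IsStable g f :=
  K310.ExistsCurve.isStableFam_of_isSmoothPtdFam _ _ ⟨h, fun i => i.elim0⟩ (by omega)

/-- The stable family over a neighbourhood of the closed point of the local ring. -/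
theorem isStable_nhd {D O B : Type u} [CommRing D] [CommRing O] [IsLocalRing O] [Algebra D O] [CommRing B]
    [Algebra D B] [IsOpenImmersion (str D B)] (t' : Ideal D) [t'.IsPrime] [IsLocalization.AtPrime O t']
    (χ : B →ₐ[D] O) {g : ℕ} {N Y : Scheme.{u}} (ν : N ⟶ Spec (CommRingCat.of B)) [Flat ν] [IsProper ν]
    [LocallyOfFinitePresentation ν] {qN : Y ⟶ N} {q : Y ⟶ Spec (CommRingCat.of O)} (hq : IsPullback qN q ν (sp χ))
    (hY : IsStable g q) {U W C₁ CW : Scheme.{u}} {T₁ : Scheme.{u}} {f₁ : C₁ ⟶ T₁} (h₁ : IsStable g f₁)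
    {fW : CW ⟶ W} {k₁ : CW ⟶ C₁} {j₁ : W ⟶ T₁} {k₂ : CW ⟶ N} {j₂ : W ⟶ Spec (CommRingCat.of B)}
    [IsOpenImmersion j₂]
    (hk₁ : IsPullback k₁ fW f₁ j₁) (hk₂ : IsPullback k₂ fW ν j₂) (ι : U ⟶ Spec (CommRingCat.of B))
    (hU : ∀ y : U, ι y = (sp χ) (closedPoint O) ∨ ι y ∈ Set.range j₂) : IsStable g (pullback.snd ν ι) := by
  rw [isStable_iff] at hY h₁ ⊢
  refine ⟨inferInstance, inferInstance, inferInstance, fun Ω _ _ t X i r hP => ?_⟩
  have hP' := hP.paste_horiz (IsPullback.of_hasPullback ν ι)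
  rcases hU (t (closedPoint Ω)) with h | h
  · obtain ⟨γ, hγ⟩ := exists_factor t' χ (t ≫ ι) (by rw [Scheme.Hom.comp_apply]; exact h)
    refine hY.2.2.2 Ω γ X (hq.lift (i ≫ pullback.fst ν ι) (r ≫ γ) ?_) r
      (IsPullback.of_right ?_ (hq.lift_snd _ _ _) hq)
    · rw [Category.assoc, Category.assoc, hγ, pullback.condition, reassoc_of% hP.w]
    · rw [hq.lift_fst, hγ]
      exact hP'
  · obtain ⟨τ, hτ⟩ := exists_lift_point j₂ (t ≫ ι) (by rw [Scheme.Hom.comp_apply]; exact h)
    have hw : (i ≫ pullback.fst ν ι) ≫ ν = (r ≫ τ) ≫ j₂ := by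
      rw [Category.assoc, Category.assoc, hτ, pullback.condition, reassoc_of% hP.w]
    have hX : IsPullback (hk₂.lift (i ≫ pullback.fst ν ι) (r ≫ τ) hw) r fW τ := by
      refine IsPullback.of_right ?_ (hk₂.lift_snd _ _ _) hk₂
      rw [hk₂.lift_fst, hτ]
      exact hP'
    exact h₁.2.2.2 Ω (τ ≫ j₁) X _ r (hX.paste_horiz hk₁)

/-- A scheme covered by two open subschemes which are smooth is smooth. -/
theorem smooth_of_two {U₁ U₂ T S : Scheme.{u}} {i₁ : U₁ ⟶ T} {i₂ : U₂ ⟶ T} [IsOpenImmersion i₁]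
    [IsOpenImmersion i₂] (hs : ∀ b : T, b ∈ Set.range i₁ ∨ b ∈ Set.range i₂) (p : T ⟶ S) (h₁ : Smooth (i₁ ≫ p))
    (h₂ : Smooth (i₂ ≫ p)) : Smooth p := by
  let 𝒰 : T.OpenCover :=
    { I₀ := ULift.{u} Bool
      X := fun b => match b.down with
        | true => U₁
        | false => U₂
      f := fun b => match b with
        | ⟨true⟩ => i₁
        | ⟨false⟩ => i₂
      mem₀ := by
        rw [Scheme.presieve₀_mem_precoverage_iff]
        refine ⟨fun x ↦ ?_, ?_⟩
        · rcases hs x with h | h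
          · exact ⟨⟨true⟩, h⟩
          · exact ⟨⟨false⟩, h⟩
        · rintro (_ | _) <;> infer_instance }
  refine IsZariskiLocalAtSource.of_openCover (P := @Smooth) 𝒰 ?_
  rintro (_ | _)
  · exact h₂
  · exact h₁

section core

variable {k D O K A₁ R : Type u} [Field k] [IsAlgClosed k] [CommRing D] [IsDedekindDomain D] [Algebra k D]
  [Algebra.FiniteType k D] [CommRing O] [IsLocalRing O] [Algebra D O] (t' : Ideal D) [t'.IsPrime] (ht' : t' ≠ ⊥)
  [IsLocalization.AtPrime O t'] [Field K] [Algebra D K] [IsFractionRing D K] [Algebra O K] [IsScalarTower D O K]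
  (π : O →+* k) (hπ : ∀ c : k, π (algebraMap D O (algebraMap k D c)) = c)
  [CommRing A₁] [Algebra D A₁] [IsOpenImmersion (str D A₁)] (χ₁ : A₁ →ₐ[D] K)
  (s₀ : A₁ →+* k) (hs₀ : ∀ c : k, s₀ (algebraMap D A₁ (algebraMap k D c)) = c)
  {g : ℕ} (hg : 2 ≤ g) {X₁ : Scheme.{u}} (f₁ : X₁ ⟶ Spec (CommRingCat.of A₁)) (hf₁ : ModFun.IsCurveOfGenus g f₁)
  {Y : Scheme.{u}} (qY : Y ⟶ Spec (CommRingCat.of O)) (hY : IsStable g qY)
  {Z : Scheme.{u}} {z : Z ⟶ Spec (CommRingCat.of K)} {a : Z ⟶ Y} {c : Z ⟶ X₁}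
  (ha : IsPullback a z qY (Spec.map (CommRingCat.ofHom (algebraMap O K)))) (hc : IsPullback c z f₁ (sp χ₁))

include ht' hπ hs₀ hg hf₁ hY ha hc in
theorem core :
    ∃ (T : Scheme.{u}) (p : T ⟶ Spec (CommRingCat.of k)) (s t : Spec (CommRingCat.of k) ⟶ T)
      (C : Scheme.{u}) (f : C ⟶ T) (i₁ : Spec (CommRingCat.of A₁) ⟶ T) (c₁ : X₁ ⟶ C),
      Smooth p ∧ ConnectedSpace T ∧ topologicalKrullDim T = 1 ∧ s ≫ p = 𝟙 _ ∧ t ≫ p = 𝟙 _ ∧ IsStable g f ∧
      s = Spec.map (CommRingCat.ofHom s₀) ≫ i₁ ∧ IsPullback c₁ f₁ f i₁ ∧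
      ∀ (Y₀ : Scheme.{u}) (j : Y₀ ⟶ C) (r : Y₀ ⟶ Spec (CommRingCat.of k)), IsPullback j r f t →
        ∃ j' : Y₀ ⟶ Y, IsPullback j' r qY (Spec.map (CommRingCat.ofHom π)) := by
  have hf₁s : Smooth f₁ := hf₁.1
  have hf₁p : IsProper f₁ := hf₁.2.1
  have hY' := isStable_iff.1 hY
  have hY1 : Flat qY := hY'.1
  have hY2 : IsProper qY := hY'.2.1
  have hY3 : LocallyOfFinitePresentation qY := hY'.2.2.1
  obtain ⟨B, _, _, χ, N, ν, qN, W, j₁, j₂, CW, fW, k₁, k₂, hB, n1, n2, n3, n4, hj₁, hj₂, hW, hw, hk₁, hk₂⟩ :=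
    exists_common (D := D) (O := O) (K := K) (A₁ := A₁) (indOpen_of_isLocalization O t'.primeCompl)
      (indOpen_of_isLocalization K (nonZeroDivisors D)) χ₁ f₁ qY ha hc
  obtain ⟨U, hxU, hjU, hU⟩ := exists_open_nhd (D := D) (str D B) j₂ ((sp χ) (closedPoint O))
  obtain ⟨m, hm⟩ : ∃ m : W ⟶ U, m ≫ U.ι = j₂ := by
    refine ⟨IsOpenImmersion.lift U.ι j₂ ?_, IsOpenImmersion.lift_fac _ _ _⟩
    rintro _ ⟨w, rfl⟩
    rw [Scheme.Opens.range_ι]
    exact hjU w
  have hmo : IsOpenImmersion m := by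
    have : IsOpenImmersion (m ≫ U.ι) := by rw [hm]; infer_instance
    exact IsOpenImmersion.of_comp _ U.ι
  obtain ⟨k₂', hk₂'1, hk₂'2⟩ : ∃ k₂' : CW ⟶ pullback ν U.ι, k₂' ≫ pullback.fst ν U.ι = k₂ ∧
      k₂' ≫ pullback.snd ν U.ι = fW ≫ m :=
    ⟨pullback.lift k₂ (fW ≫ m) (by rw [Category.assoc, hm, hk₂.w]), pullback.lift_fst _ _ _,
      pullback.lift_snd _ _ _⟩
  have hpb₂ : IsPullback k₂' fW (pullback.snd ν U.ι) m := by
    refine IsPullback.of_right (h₁₂ := pullback.fst ν U.ι) (v₁₃ := ν) (h₂₂ := U.ι) ?_ hk₂'2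
      (IsPullback.of_hasPullback _ _)
    rw [hk₂'1, hm]
    exact hk₂
  obtain ⟨T, i₁, i₂, C, f, c₁, c₂, hi₁, hi₂, hpo, hpb, hs, hc₁, hc₂⟩ :=
    exists_glue j₁ m f₁ (pullback.snd ν U.ι) k₁ k₂' fW hk₁ hpb₂
  let b : Spec (CommRingCat.of D) ⟶ Spec (CommRingCat.of k) := Spec.map (CommRingCat.ofHom (algebraMap k D))
  have hb : Smooth b := smooth_spec
  obtain ⟨p, hp₁, hp₂⟩ : ∃ p : T ⟶ Spec (CommRingCat.of k), i₁ ≫ p = str D A₁ ≫ b ∧
      i₂ ≫ p = U.ι ≫ str D B ≫ b := by
    refine ⟨hpo.desc (str D A₁ ≫ b) (U.ι ≫ str D B ≫ b) ?_, hpo.inl_desc _ _ _, hpo.inr_desc _ _ _⟩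
    rw [reassoc_of% hw, reassoc_of% hm]
  obtain ⟨l, hl⟩ := exists_lift_local (sp χ) U hxU
  have hUι : IsOpenImmersion (U.ι ≫ str D B) := inferInstance
  have hsD : sp χ ≫ str D B = str D O := by
    change Spec.map _ ≫ Spec.map _ = Spec.map _
    rw [← Spec.map_comp, ← CommRingCat.ofHom_comp]
    congr 2
    exact χ.comp_algebraMap
  -- the point of `Spec D` over the closed point of `O`
  have hpt : ((str D O) (closedPoint O) : PrimeSpectrum D).asIdeal = t' := by
    change (maximalIdeal O).comap (algebraMap D O) = t'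
    exact IsLocalization.AtPrime.under_maximalIdeal O t'
  have hirr : IrreducibleSpace (Spec (CommRingCat.of D)) := inferInstance
  have hbi : Function.Injective (algebraMap k D) := (algebraMap k D).injective
  -- the point of `Spec A₁`
  have hpt₁ : ((str D A₁) ((Spec.map (CommRingCat.ofHom s₀)) (closedPoint k)) : PrimeSpectrum D).asIdeal ≠ ⊥ := by
    intro h0
    have h1 : (closedPoint k).asIdeal.comap (s₀.comp (algebraMap D A₁)) = ⊥ := h0
    obtain ⟨d, hd, hd0⟩ := Submodule.exists_mem_ne_zero_of_ne_bot ht'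
    have h2 : d - algebraMap k D (s₀ (algebraMap D A₁ d)) ∈
        (closedPoint k).asIdeal.comap (s₀.comp (algebraMap D A₁)) := by
      rw [Ideal.mem_comap, map_sub]
      have e : (s₀.comp (algebraMap D A₁)) (algebraMap k D (s₀ (algebraMap D A₁ d))) =
          (s₀.comp (algebraMap D A₁)) d := hs₀ _
      rw [e, sub_self]
      exact zero_mem _
    rw [h1, Ideal.mem_bot, sub_eq_zero] at h2
    have h3 : IsUnit d := by
      rw [h2]
      refine IsUnit.map _ (isUnit_iff_ne_zero.2 fun h => hd0 ?_)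
      rw [h2, h, map_zero]
    exact (inferInstance : t'.IsPrime).ne_top (Ideal.eq_top_of_isUnit_mem _ hd h3)
  refine ⟨T, p, Spec.map (CommRingCat.ofHom s₀) ≫ i₁, Spec.map (CommRingCat.ofHom π) ≫ l ≫ i₂, C, f, i₁, c₁,
    ?_, ?_, ?_, ?_, ?_, ?_, rfl, hc₁, ?_⟩
  · refine smooth_of_two hs p ?_ ?_
    · rw [hp₁]; infer_instance
    · rw [hp₂]; infer_instance
  · obtain ⟨w⟩ := hW
    have : ConnectedSpace (Spec (CommRingCat.of A₁)) := connected_of_open (str D A₁) (j₁ w)
    have : ConnectedSpace U := connected_of_open (U.ι ≫ str D B) (m w)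
    refine connected_of_two hs (j₁ w) (m w) ?_
    rw [← Scheme.Hom.comp_apply, ← Scheme.Hom.comp_apply, hpo.w]
  · refine dim_of_two hs ?_ ?_
    · exact dim_eq_one_of_open (D := D) (str D A₁) _ hpt₁
    · refine dim_eq_one_of_open (D := D) (U.ι ≫ str D B) (l (closedPoint O)) ?_
      have e : (U.ι ≫ str D B) (l (closedPoint O)) = (str D O) (closedPoint O) := by
        rw [← Scheme.Hom.comp_apply, reassoc_of% hl, hsD]
      rw [e, hpt]
      exact ht'
  · rw [Category.assoc, hp₁]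
    change Spec.map _ ≫ Spec.map _ ≫ Spec.map _ = _
    rw [← Spec.map_comp, ← CommRingCat.ofHom_comp, ← Spec.map_comp, ← CommRingCat.ofHom_comp, ← Spec.map_id]
    congr 1
    ext c
    exact hs₀ c
  · rw [Category.assoc, Category.assoc, hp₂, reassoc_of% hl, reassoc_of% hsD]
    change Spec.map _ ≫ Spec.map _ ≫ Spec.map _ = _
    rw [← Spec.map_comp, ← CommRingCat.ofHom_comp, ← Spec.map_comp, ← CommRingCat.ofHom_comp, ← Spec.map_id]
    congr 1
    ext c
    exact hπ c
  · refine isStable_of_two hs hc₁ hc₂ (isStable_of_isCurveOfGenus hg hf₁) ?_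
    exact isStable_nhd t' χ ν n4 hY (isStable_of_isCurveOfGenus hg hf₁) hk₁ hk₂ U.ι fun y => hU _ y.2
  · intro Y₀ j r hj
    have hw₂ : j ≫ f = (r ≫ Spec.map (CommRingCat.ofHom π) ≫ l) ≫ i₂ := by
      rw [hj.w]
      simp only [Category.assoc]
    obtain ⟨j₀, hj₀1, hj₀2⟩ : ∃ j₀ : Y₀ ⟶ pullback ν U.ι, j₀ ≫ c₂ = j ∧
        j₀ ≫ pullback.snd ν U.ι = r ≫ Spec.map (CommRingCat.ofHom π) ≫ l :=
      ⟨hc₂.lift j _ hw₂, hc₂.lift_fst _ _ _, hc₂.lift_snd _ _ _⟩
    have s1 : IsPullback j₀ r (pullback.snd ν U.ι) (Spec.map (CommRingCat.ofHom π) ≫ l) := by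
      refine IsPullback.of_right (h₁₂ := c₂) (v₁₃ := f) (h₂₂ := i₂) ?_ hj₀2 hc₂
      rw [hj₀1, Category.assoc]
      exact hj
    have s2 := s1.paste_horiz (IsPullback.of_hasPullback ν U.ι)
    rw [Category.assoc, hl] at s2
    have hw₃ : (j₀ ≫ pullback.fst ν U.ι) ≫ ν = (r ≫ Spec.map (CommRingCat.ofHom π)) ≫ sp χ := by
      rw [s2.w, Category.assoc]
    refine ⟨n4.lift (j₀ ≫ pullback.fst ν U.ι) (r ≫ Spec.map (CommRingCat.ofHom π)) hw₃, ?_⟩
    refine IsPullback.of_right ?_ (n4.lift_snd _ _ _) n4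
    rw [n4.lift_fst]
    exact s2

end core

end K641.HurwAsm

section

open CategoryTheory CategoryTheory.Limits AlgebraicGeometry Opposite IsLocalRing TensorProduct

namespace K641.HurwAsm

/-- The integral closure of `A` in `K` maps to every integrally closed ring over `A` with fraction field `K`. -/
theorem exists_hom {A D O K : Type*} [CommRing A] [CommRing D] [CommRing O] [IsDomain O] [IsIntegrallyClosed O]
    [Field K] [Algebra A D] [Algebra D K] [Algebra A K] [IsScalarTower A D K] [IsIntegralClosure D A K]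
    [Algebra O K] [IsFractionRing O K] [Algebra A O] [IsScalarTower A O K] :
    ∃ θ : D →ₐ[A] O, ∀ d, algebraMap O K (θ d) = algebraMap D K d := by
  have hinj : Function.Injective (algebraMap O K) := IsFractionRing.injective O K
  have h : ∀ d : D, ∃ y : O, algebraMap O K y = algebraMap D K d := by
    intro d
    have h1 : IsIntegral A (algebraMap D K d) := (IsIntegralClosure.isIntegral_iff (A := D)).2 ⟨d, rfl⟩
    have h2 : IsIntegral O (algebraMap D K d) := h1.tower_top
    exact IsIntegrallyClosed.isIntegral_iff.1 h2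
  choose θ hθ using h
  refine ⟨{ toFun := θ, map_one' := ?_, map_mul' := ?_, map_zero' := ?_, map_add' := ?_, commutes' := ?_ }, hθ⟩
  · exact hinj (by rw [hθ, map_one, map_one])
  · intro x y
    exact hinj (by rw [hθ, map_mul, map_mul, hθ, hθ])
  · exact hinj (by rw [hθ, map_zero, map_zero])
  · intro x y
    exact hinj (by rw [hθ, map_add, map_add, hθ, hθ])
  · intro x
    exact hinj (by rw [hθ, ← IsScalarTower.algebraMap_apply, ← IsScalarTower.algebraMap_apply])

open Polynomial in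
theorem main₂ {k R R' K' D : Type u} [Field k] [IsAlgClosed k] [CommRing R] [Algebra k R] [Algebra k[X] R]
    [IsScalarTower k k[X] R] [Algebra.FinitePresentation k[X] R] (ρ : R →ₐ[k] k)
    [CommRing R'] [IsDomain R'] [IsDiscreteValuationRing R'] [Algebra k R'] [Algebra k[X] R']
    [IsScalarTower k k[X] R'] [Field K'] [Algebra R' K'] [IsFractionRing R' K'] [Algebra k[X] K']
    [IsScalarTower k[X] R' K'] (hinj : Function.Injective (algebraMap k[X] K'))
    [CommRing D] [IsDedekindDomain D] [Algebra k D] [Algebra.FiniteType k D] [Algebra k[X] D]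
    [IsScalarTower k k[X] D] [Algebra D K'] [IsFractionRing D K'] [IsScalarTower k[X] D K']
    [IsIntegralClosure D k[X] K'] (hX : algebraMap k[X] R' Polynomial.X ∈ maximalIdeal R')
    (φ : R →ₐ[k[X]] K') (hφ : Function.Injective φ)
    {𝒳 : Scheme.{u}} (Q : 𝒳 ⟶ Spec (CommRingCat.of R)) {g : ℕ} (hg : 2 ≤ g) (hQ : ModFun.IsCurveOfGenus g Q)
    {X₀ : Scheme.{u}} {q : X₀ ⟶ Spec (CommRingCat.of k)} {i : X₀ ⟶ 𝒳}
    (hi : IsPullback i q Q (Spec.map (CommRingCat.ofHom ρ.toRingHom)))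
    {Y : Scheme.{u}} (qY : Y ⟶ Spec (CommRingCat.of R')) (hY : IsStable g qY)
    {Z : Scheme.{u}} {z : Z ⟶ Spec (CommRingCat.of K')} {a : Z ⟶ Y} {c : Z ⟶ 𝒳}
    (ha : IsPullback a z qY (Spec.map (CommRingCat.ofHom (algebraMap R' K'))))
    (hc : IsPullback c z Q (Spec.map (CommRingCat.ofHom φ.toRingHom))) :
    ∃ π : R' →ₐ[k] k, IsLocalHom π.toRingHom ∧
    ∃ (T : Scheme.{u}) (p : T ⟶ Spec (CommRingCat.of k)) (s t : Spec (CommRingCat.of k) ⟶ T)
      (C : Scheme.{u}) (f : C ⟶ T) (i' : X₀ ⟶ C),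
      Smooth p ∧ ConnectedSpace T ∧ topologicalKrullDim T = 1 ∧ s ≫ p = 𝟙 _ ∧ t ≫ p = 𝟙 _ ∧ IsStable g f ∧
      IsPullback i' q f s ∧
      ∀ (Y₀ : Scheme.{u}) (j : Y₀ ⟶ C) (r : Y₀ ⟶ Spec (CommRingCat.of k)), IsPullback j r f t →
        ∃ j' : Y₀ ⟶ Y, IsPullback j' r qY (Spec.map (CommRingCat.ofHom π.toRingHom)) := by
  obtain ⟨θ, hθ⟩ := exists_hom (A := k[X]) (D := D) (O := R') (K := K')
  let _ : Algebra D R' := θ.toRingHom.toAlgebra
  have t1 : IsScalarTower D R' K' := IsScalarTower.of_algebraMap_eq fun x => (hθ x).symm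
  have t2 : IsScalarTower k D R' := IsScalarTower.of_algebraMap_eq fun x => by
    change algebraMap k R' x = θ (algebraMap k D x)
    rw [IsScalarTower.algebraMap_apply k k[X] D, θ.commutes, ← IsScalarTower.algebraMap_apply]
  have hinjD : Function.Injective (algebraMap k[X] D) := by
    intro x y h
    apply hinj
    rw [IsScalarTower.algebraMap_apply k[X] D K', IsScalarTower.algebraMap_apply k[X] D K', h]
  let t' : Ideal D := (maximalIdeal R').comap (algebraMap D R')
  have ht' : t' ≠ ⊥ := by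
    intro h0
    have h1 : algebraMap k[X] D Polynomial.X ∈ t' := by
      change θ (algebraMap k[X] D Polynomial.X) ∈ maximalIdeal R'
      rw [θ.commutes]
      exact hX
    rw [h0, Ideal.mem_bot] at h1
    exact Polynomial.X_ne_zero (hinjD (by rw [h1, map_zero]))
  have ht'p : t'.IsPrime := Ideal.IsPrime.comap _
  have ht'm : t'.IsMaximal := ht'p.isMaximal ht'
  have hloc : IsLocalization.AtPrime R' t' := isLocalization_of_dom (K := K') (IsFractionRing.injective R' K') t'
    rfl ht'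
  obtain ⟨π, hπ⟩ := exists_ratPt (k := k) (D := D) (O := R') t'
  obtain ⟨V, hV, hR, hρ⟩ := exists_val ρ φ hφ
  have hDV : ∀ d : D, algebraMap D K' d ∈ V := fun d =>
    hV ⟨algebraMap D K' d, (IsIntegralClosure.isIntegral_iff (A := D)).2 ⟨d, rfl⟩⟩
  let _ : Algebra D V := ((algebraMap D K').codRestrict V.toSubring hDV).toAlgebra
  have t3 : IsScalarTower D V K' := IsScalarTower.of_algebraMap_eq fun x => rfl
  let _ : Algebra k V := ((algebraMap D V).comp (algebraMap k D)).toAlgebra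
  have t4 : IsScalarTower k D V := IsScalarTower.of_algebraMap_eq fun x => rfl
  let _ : Algebra k[X] V := ((algebraMap D V).comp (algebraMap k[X] D)).toAlgebra
  have t5 : IsScalarTower k[X] D V := IsScalarTower.of_algebraMap_eq fun x => rfl
  let φV : R →ₐ[k[X]] V := { φ.toRingHom.codRestrict V.toSubring hR with
    commutes' := fun x => Subtype.ext (by
      change φ (algebraMap k[X] R x) = algebraMap D K' (algebraMap k[X] D x)
      rw [φ.commutes, ← IsScalarTower.algebraMap_apply]) }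
  have hφV : ∀ r, ρ r = 0 → φV r ∈ maximalIdeal V := hρ
  let s' : Ideal D := (maximalIdeal V).comap (algebraMap D V)
  have hs' : s' ≠ ⊥ := by
    intro h0
    let x₀ : k[X] := Polynomial.X - Polynomial.C (ρ (algebraMap k[X] R Polynomial.X))
    have h1 : ρ (algebraMap k[X] R x₀) = 0 := by
      have e : algebraMap k[X] R (Polynomial.C (ρ (algebraMap k[X] R Polynomial.X))) =
          algebraMap k R (ρ (algebraMap k[X] R Polynomial.X)) :=
        (IsScalarTower.algebraMap_apply k k[X] R _).symm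
      change ρ (algebraMap k[X] R (Polynomial.X - Polynomial.C _)) = 0
      rw [map_sub, map_sub, e, ρ.commutes, Algebra.algebraMap_self, RingHom.id_apply, sub_self]
    have h2 := hφV _ h1
    rw [φV.commutes, IsScalarTower.algebraMap_apply k[X] D V] at h2
    have h3 : algebraMap k[X] D x₀ ∈ s' := h2
    rw [h0, Ideal.mem_bot] at h3
    exact Polynomial.X_sub_C_ne_zero _ (hinjD (by rw [h3, map_zero]))
  have hs'p : s'.IsPrime := Ideal.IsPrime.comap _
  have hs'm : s'.IsMaximal := hs'p.isMaximal hs'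
  have hloc' : IsLocalization.AtPrime V s' := isLocalization_of_dom (K := K') (IsFractionRing.injective V K') s'
    rfl hs'
  obtain ⟨πV, hπV⟩ := exists_ratPt (k := k) (D := D) (O := V) s'
  obtain ⟨A₁, _, _, hA₁, ψ₁, χV, hψχ⟩ := indOpen_of_isLocalization V s'.primeCompl (D ⊗[k[X]] R)
    (Algebra.TensorProduct.lift (Algebra.ofId D V) φV fun _ _ => Commute.all _ _)
  let σ : R →+* A₁ := ψ₁.toRingHom.comp (Algebra.TensorProduct.includeRight : R →ₐ[k[X]] D ⊗[k[X]] R).toRingHom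
  have hσV : ∀ r, χV (σ r) = φV r := by
    intro r
    have h1 := DFunLike.congr_fun hψχ ((1 : D) ⊗ₜ[k[X]] r)
    rw [Algebra.TensorProduct.lift_tmul, map_one, one_mul] at h1
    exact h1
  let χ₁ : A₁ →ₐ[D] K' := (IsScalarTower.toAlgHom D V K').comp χV
  have hχσ : ∀ r, χ₁ (σ r) = φ r := by
    intro r
    change ((χV (σ r) : V) : K') = φ r
    rw [hσV]
    rfl
  let s₀ : A₁ →+* k := πV.toRingHom.comp χV.toRingHom
  have hs₀ : ∀ c : k, s₀ (algebraMap D A₁ (algebraMap k D c)) = c := by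
    intro c
    change πV (χV (algebraMap D A₁ (algebraMap k D c))) = c
    rw [χV.commutes, ← IsScalarTower.algebraMap_apply k D V, πV.commutes]
    rfl
  let ρ' : R →ₐ[k] k := { s₀.comp σ with
    commutes' := fun c => by
      change πV (χV (σ (algebraMap k R c))) = c
      rw [hσV, IsScalarTower.algebraMap_apply k k[X] R, φV.commutes, IsScalarTower.algebraMap_apply k[X] D V,
        ← IsScalarTower.algebraMap_apply k k[X] D, ← IsScalarTower.algebraMap_apply k D V, πV.commutes]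
      rfl }
  have hρρ' : ρ = ρ' := by
    refine algHom_eq ρ ρ' fun r hr => ?_
    have h1 := hφV r hr
    rw [← hπV] at h1
    change πV (χV (σ r)) = 0
    rw [hσV]
    exact h1
  have hρs : s₀.comp σ = ρ.toRingHom := by
    rw [hρρ']
  have eσ : Spec.map (CommRingCat.ofHom s₀) ≫ Spec.map (CommRingCat.ofHom σ) =
      Spec.map (CommRingCat.ofHom ρ.toRingHom) := by
    rw [← Spec.map_comp, ← CommRingCat.ofHom_comp, hρs]
  have eχ : sp χ₁ ≫ Spec.map (CommRingCat.ofHom σ) = Spec.map (CommRingCat.ofHom φ.toRingHom) := by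
    change Spec.map _ ≫ _ = _
    rw [← Spec.map_comp, ← CommRingCat.ofHom_comp]
    congr 2
    ext r
    exact hχσ r
  obtain ⟨c', hc'1, hc'2⟩ : ∃ c' : Z ⟶ pullback Q (Spec.map (CommRingCat.ofHom σ)),
      c' ≫ pullback.fst Q (Spec.map (CommRingCat.ofHom σ)) = c ∧
      c' ≫ pullback.snd Q (Spec.map (CommRingCat.ofHom σ)) = z ≫ sp χ₁ :=
    ⟨pullback.lift c (z ≫ sp χ₁) (by rw [Category.assoc, eχ, hc.w]), pullback.lift_fst _ _ _,
      pullback.lift_snd _ _ _⟩
  have hc' : IsPullback c' z (pullback.snd Q (Spec.map (CommRingCat.ofHom σ))) (sp χ₁) := by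
    refine IsPullback.of_right (h₁₂ := pullback.fst Q (Spec.map (CommRingCat.ofHom σ))) (v₁₃ := Q)
      (h₂₂ := Spec.map (CommRingCat.ofHom σ)) ?_ hc'2 (IsPullback.of_hasPullback _ _)
    rw [hc'1, eχ]
    exact hc
  have hπ0 : ∀ c : k, π.toRingHom (algebraMap D R' (algebraMap k D c)) = c := by
    intro c
    change π (algebraMap D R' (algebraMap k D c)) = c
    rw [← IsScalarTower.algebraMap_apply k D R', π.commutes]
    rfl
  obtain ⟨T, p, s, t, C, f, i₁, c₁, h1, h2, h3, h4, h5, h6, h7, h8, h9⟩ :=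
    core (k := k) t' ht' π.toRingHom hπ0 χ₁ s₀ hs₀ hg (pullback.snd Q (Spec.map (CommRingCat.ofHom σ)))
      (K995.GenusField.isCurveOfGenus_of_isPullback (IsPullback.of_hasPullback _ _) hQ) qY hY ha hc'
  obtain ⟨i₀, hi₀1, hi₀2⟩ : ∃ i₀ : X₀ ⟶ pullback Q (Spec.map (CommRingCat.ofHom σ)),
      i₀ ≫ pullback.fst Q (Spec.map (CommRingCat.ofHom σ)) = i ∧
      i₀ ≫ pullback.snd Q (Spec.map (CommRingCat.ofHom σ)) = q ≫ Spec.map (CommRingCat.ofHom s₀) :=
    ⟨pullback.lift i (q ≫ Spec.map (CommRingCat.ofHom s₀)) (by rw [Category.assoc, eσ, hi.w]),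
      pullback.lift_fst _ _ _, pullback.lift_snd _ _ _⟩
  have hi₀ : IsPullback i₀ q (pullback.snd Q (Spec.map (CommRingCat.ofHom σ)))
      (Spec.map (CommRingCat.ofHom s₀)) := by
    refine IsPullback.of_right (h₁₂ := pullback.fst Q (Spec.map (CommRingCat.ofHom σ))) (v₁₃ := Q)
      (h₂₂ := Spec.map (CommRingCat.ofHom σ)) ?_ hi₀2 (IsPullback.of_hasPullback _ _)
    rw [hi₀1, eσ]
    exact hi
  refine ⟨π, ⟨fun x hx => ?_⟩, T, p, s, t, C, f, i₀ ≫ c₁, h1, h2, h3, h4, h5, h6, ?_, h9⟩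
  · by_contra hnu
    have h10 : x ∈ maximalIdeal R' := hnu
    rw [← hπ, RingHom.mem_ker] at h10
    rw [h10] at hx
    exact not_isUnit_zero hx
  · rw [h7]
    exact hi₀.paste_horiz h8

end K641.HurwAsm

end
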