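import Groth.Agent.SGA1.K150.IndOpen
import Groth.Agent.Sga3.H515.LimSmooth
import Groth.Agent.ConsPropPair.K286.Desc
import Groth.Agent.S0591

/-!
# Spreading out schemes and isomorphisms over a localization

* `exists_model`: a finitely presented scheme over `Spec C`, `IndOpen A C`, with a property which descends along limits,
  comes from an affine open subscheme of `Spec A`.
* `exists_iso`: isomorphisms over `Spec C` spread out.

# Two families with the same generic fibre agree over an open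

* `exists_common`
-/

set_option autoImplicit false
set_option backward.isDefEq.respectTransparency false
set_option backward.isDefEq.respectTransparency.types false

open CategoryTheory CategoryTheory.Limits AlgebraicGeometry Opposite
open Groth.Agent.Sga1 Groth.Agent.Sga1.SectionSpread Groth.Agent.Ega43.LimitDescend
open K150.IndOpen

universe u

namespace K641.HurwAsm

theorem descendsLim_inf {P Q : MorphismProperty Scheme.{u}} [P.IsStableUnderBaseChange]
    [Q.IsStableUnderBaseChange] (hP : DescendsLim P) (hQ : DescendsLim Q) : DescendsLim (P ⊓ Q) := by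
  intro J _ _ E c hc _ _ _ B X₀ t ht f₀ _ _ _ p hp X q f hX hf
  obtain ⟨j₁, h₁⟩ := hP E c hc t ht f₀ p hp q f hX hf.1
  obtain ⟨j₂, h₂⟩ := hQ E c hc t ht f₀ p hp q f hX hf.2
  obtain ⟨j, a, b, -⟩ := IsCofilteredOrEmpty.cone_objs j₁ j₂
  have key : ∀ (R : MorphismProperty Scheme.{u}) [R.IsStableUnderBaseChange] {i : J} (φ : j ⟶ i),
      R (pullback.snd f₀ (t i)) → R (pullback.snd f₀ (t j)) := by
    intro R _ i φ h
    have hw : pullback.fst f₀ (t j) ≫ f₀ = (pullback.snd f₀ (t j) ≫ E.map φ) ≫ t i := by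
      rw [pullback.condition, Category.assoc, ht φ]
    have sq : IsPullback (pullback.lift (pullback.fst f₀ (t j)) (pullback.snd f₀ (t j) ≫ E.map φ) hw)
        (pullback.snd f₀ (t j)) (pullback.snd f₀ (t i)) (E.map φ) := by
      refine IsPullback.of_right (h₁₂ := pullback.fst f₀ (t i)) (v₁₃ := f₀) (h₂₂ := t i) ?_
        (pullback.lift_snd _ _ _) (IsPullback.of_hasPullback _ _)
      rw [pullback.lift_fst, ht φ]
      exact IsPullback.of_hasPullback _ _
    exact R.of_isPullback sq h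
  exact ⟨j, key P a h₁, key Q b h₂⟩

/-- Spreading out a finitely presented scheme together with a property. -/
theorem exists_model {P : MorphismProperty Scheme.{u}} [P.IsStableUnderBaseChange] (hP : DescendsLim P)
    {A C : Type u} [CommRing A] [CommRing C] [Algebra A C]
    (hC : IndOpen A C) {U : Scheme.{u}} (u : U ⟶ Spec (CommRingCat.of C)) [LocallyOfFinitePresentation u]
    [QuasiCompact u] [QuasiSeparated u] (hu : P u) :
    ∃ (B : Type u) (_ : CommRing B) (_ : Algebra A B) (_ : IsOpenImmersion (str A B))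
      (χ : B →ₐ[A] C) (N : Scheme.{u}) (ν : N ⟶ Spec (CommRingCat.of B)) (q : U ⟶ N),
      LocallyOfFinitePresentation ν ∧ QuasiCompact ν ∧ QuasiSeparated ν ∧ P ν ∧ IsPullback q u ν (sp χ) := by
  have : IsCofiltered (FPColim.Idx A C)ᵒᵖ := inferInstance
  have i1 : ∀ (i j : (FPColim.Idx A C)ᵒᵖ) (φ : i ⟶ j), IsAffineHom ((specDiag A C).map φ) :=
    fun i j φ => inferInstanceAs (IsAffineHom (Spec.map ((FPColim.ringDiagram A C).map φ.unop)))
  have i2 : ∀ j : (FPColim.Idx A C)ᵒᵖ, CompactSpace ((specDiag A C).obj j) :=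
    fun j => inferInstanceAs (CompactSpace (Spec _))
  have i3 : ∀ j : (FPColim.Idx A C)ᵒᵖ, QuasiSeparatedSpace ((specDiag A C).obj j) :=
    fun j => inferInstanceAs (QuasiSeparatedSpace (Spec _))
  let u' : U ⟶ (specCone A C).pt := u
  have k1 : LocallyOfFinitePresentation u' := inferInstanceAs (LocallyOfFinitePresentation u)
  have k2 : QuasiCompact u' := ‹QuasiCompact u›
  have k3 : QuasiSeparated u' := ‹QuasiSeparated u›
  obtain ⟨i, Xi, fi, g, h1, h2, h3, h4⟩ := Groth.Agent.S0591.result (specDiag A C) (specCone A C)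
    (isLimitSpecCone A C) U u'
  obtain ⟨j, φ, Xj, Yj, fj, gj, pY, pX, e1, e2, e3⟩ := exists_descend_of_descendsLim hP (specDiag A C) (specCone A C)
    (isLimitSpecCone A C) i fi (𝟙 _) u' (𝟙 _) ((specCone A C).π.app i) g (IsPullback.of_vert_isIso ⟨by simp⟩) h4 hu
  have hgj : IsIso gj := e1.isIso_snd_of_isIso
  have e4 := e2.paste_vert e1
  rw [Category.comp_id] at e4
  let v : Xj ⟶ Spec (CommRingCat.of (FPColim.Stage j.unop)) := fj ≫ gj
  have e4' : IsPullback pX v fi ((specDiag A C).map φ) := e4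
  have l0 : P v := (MorphismProperty.cancel_right_of_respectsIso P fj gj).2 e3
  have l1 : LocallyOfFinitePresentation v := MorphismProperty.of_isPullback e4' h1
  have l2 : QuasiCompact v := MorphismProperty.of_isPullback e4' h2
  have l3 : QuasiSeparated v := MorphismProperty.of_isPullback e4' h3
  -- the base change of `v` to `C`
  have hw : g ≫ fi = (u' ≫ (specCone A C).π.app j) ≫ (specDiag A C).map φ := by
    rw [Category.assoc, (specCone A C).w, h4.w]
  have h5 : IsPullback (e4'.lift g (u' ≫ (specCone A C).π.app j) hw) u' v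
      ((specCone A C).π.app j) := by
    refine IsPullback.of_right (h₁₂ := pX) (v₁₃ := fi)
      (h₂₂ := (specDiag A C).map φ) ?_ (e4'.lift_snd _ _ _) e4'
    rw [e4'.lift_fst, (specCone A C).w]
    exact h4
  obtain ⟨B, _, _, hB, ψ, χ, h6⟩ := hC (FPColim.Stage j.unop) (FPColim.toC j.unop)
  have h7 : (specCone A C).π.app j = sp χ ≫ sp ψ := by
    have e1 : sp χ ≫ sp ψ = sp (χ.comp ψ) := by
      rw [sp, sp, sp, ← Spec.map_comp, ← CommRingCat.ofHom_comp]; rfl
    rw [e1, h6]
    rfl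
  refine ⟨B, inferInstance, inferInstance, hB, χ, pullback v (sp ψ), pullback.snd v (sp ψ),
    pullback.lift (e4'.lift g (u' ≫ (specCone A C).π.app j) hw) (u' ≫ sp χ) ?_, ?_, ?_, ?_, ?_, ?_⟩
  · rw [Category.assoc, ← h7]
    exact h5.w
  · infer_instance
  · infer_instance
  · infer_instance
  · exact MorphismProperty.pullback_snd _ _ l0
  · refine IsPullback.of_right (h₁₂ := pullback.fst v (sp ψ)) (v₁₃ := v)
      (h₂₂ := sp ψ) ?_ (pullback.lift_snd _ _ _) (IsPullback.of_hasPullback _ _)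
    rw [pullback.lift_fst, ← h7]
    exact h5

/-- Flat and proper schemes of finite presentation spread out. -/
theorem exists_model_proper {A C : Type u} [CommRing A] [CommRing C] [Algebra A C]
    (hC : IndOpen A C) {U : Scheme.{u}} (u : U ⟶ Spec (CommRingCat.of C)) [LocallyOfFinitePresentation u]
    [Flat u] [IsProper u] :
    ∃ (B : Type u) (_ : CommRing B) (_ : Algebra A B) (_ : IsOpenImmersion (str A B))
      (χ : B →ₐ[A] C) (N : Scheme.{u}) (ν : N ⟶ Spec (CommRingCat.of B)) (q : U ⟶ N),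
      LocallyOfFinitePresentation ν ∧ Flat ν ∧ IsProper ν ∧ IsPullback q u ν (sp χ) := by
  obtain ⟨B, _, _, hB, χ, N, ν, q, h1, -, -, h2, h3⟩ := exists_model
    (P := (@Flat ⊓ @IsProper : MorphismProperty Scheme.{u}))
    (descendsLim_inf Groth.Agent.Sga3.H515.LimSmooth.descendsLim_flat K286.Desc.descendsLim_isProper) hC u
    ⟨‹Flat u›, ‹IsProper u›⟩
  exact ⟨B, inferInstance, inferInstance, hB, χ, N, ν, q, h1, h2.1, h2.2, h3⟩

section iso

variable {A C : Type u} [CommRing A] [CommRing C] [Algebra A C] {X E : Scheme.{u}}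
  (f : X ⟶ Spec (CommRingCat.of A)) (e : E ⟶ Spec (CommRingCat.of A))

theorem isPullback_over {B B' : Type u} [CommRing B] [CommRing B'] [Algebra A B] [Algebra A B'] (φ : B →ₐ[A] B')
    {θ : bc f B ⟶ bc e B} {θ' : bc f B' ⟶ bc e B'} (hθ : θ ≫ pullback.snd e (str A B) = pullback.snd f (str A B))
    (hθ' : θ' ≫ pullback.snd e (str A B') = pullback.snd f (str A B')) (w : bcMap f φ ≫ θ = θ' ≫ bcMap e φ) :
    IsPullback (bcMap f φ) θ' θ (bcMap e φ) := by
  refine IsPullback.of_bot (v₂₁ := pullback.snd e (str A B')) (v₂₂ := pullback.snd e (str A B)) (h₃₁ := sp φ) ?_ w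
    (isPullback_bcMap e φ)
  rw [hθ, hθ']
  exact isPullback_bcMap f φ

/-- Isomorphisms spread out. -/
theorem exists_iso (hC : IndOpen A C) [LocallyOfFinitePresentation f] [QuasiCompact f] [QuasiSeparated f]
    [LocallyOfFinitePresentation e] [QuasiCompact e] [QuasiSeparated e] (θ : bc f C ⟶ bc e C) [IsIso θ]
    (hθ : θ ≫ pullback.snd e (str A C) = pullback.snd f (str A C)) :
    ∃ (B : Type u) (_ : CommRing B) (_ : Algebra A B) (_ : IsOpenImmersion (str A B)) (_ : B →ₐ[A] C)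
      (η : bc f B ⟶ bc e B), IsIso η ∧ η ≫ pullback.snd e (str A B) = pullback.snd f (str A B) := by
  obtain ⟨B, _, _, hB, χ, τ, h1, h2⟩ := exists_open f f C hC e (θ ≫ pullback.fst e (str A C)) (by
    rw [Category.assoc, pullback.condition, reassoc_of% hθ, pullback.condition])
  obtain ⟨η, hη1, hη2⟩ : ∃ η : bc f B ⟶ bc e B, η ≫ pullback.fst e (str A B) = τ ∧
      η ≫ pullback.snd e (str A B) = pullback.snd f (str A B) :=
    ⟨pullback.lift τ (pullback.snd f (str A B)) (by rw [h1, pullback.condition]), pullback.lift_fst _ _ _,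
      pullback.lift_snd _ _ _⟩
  have hw : bcMap f χ ≫ η = θ ≫ bcMap e χ := by
    apply pullback.hom_ext
    · rw [Category.assoc, Category.assoc, hη1, h2, bcMap_fst]
    · rw [Category.assoc, Category.assoc, hη2, bcMap_snd, bcMap_snd, reassoc_of% hθ]
  have hpb := isPullback_over f e χ hη2 hθ hw
  have hfp := finitePresentation_of_isOpenImmersion A B
  have a1 : LocallyOfFinitePresentation (η ≫ pullback.snd e (str A B)) := by rw [hη2]; infer_instance
  have a2 : QuasiCompact (η ≫ pullback.snd e (str A B)) := by rw [hη2]; infer_instance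
  have a3 : QuasiSeparated (η ≫ pullback.snd e (str A B)) := by rw [hη2]; infer_instance
  have b1 : LocallyOfFinitePresentation η :=
    Groth.Agent.Ega43.FPOfComp.locallyOfFinitePresentation_of_comp η (pullback.snd e (str A B))
  have b2 : QuasiCompact η := QuasiCompact.of_comp η (pullback.snd e (str A B))
  have b3 : QuasiSeparated η := QuasiSeparated.of_comp η (pullback.snd e (str A B))
  obtain ⟨B', _, _, hB', ψ, χ', -, h4⟩ := exists_open_prop f C
    Groth.Agent.Ega43.LimitDescendIso.descendsLim_isomorphisms hC e B χ η θ hpb ‹IsIso θ›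
  obtain ⟨η', hη1', hη2'⟩ : ∃ η' : bc f B' ⟶ bc e B', η' ≫ bcMap e ψ = bcMap f ψ ≫ η ∧
      η' ≫ pullback.snd e (str A B') = pullback.snd f (str A B') := by
    refine ⟨(isPullback_bcMap e ψ).lift (bcMap f ψ ≫ η) (pullback.snd f (str A B')) ?_,
      (isPullback_bcMap e ψ).lift_fst _ _ _, (isPullback_bcMap e ψ).lift_snd _ _ _⟩
    rw [Category.assoc, hη2, bcMap_snd]
  exact ⟨B', inferInstance, inferInstance, hB', χ', η', h4 η' (isPullback_over f e ψ hη2 hη2' hη1'.symm), hη2'⟩

end iso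

end K641.HurwAsm

section

open CategoryTheory CategoryTheory.Limits AlgebraicGeometry Opposite TensorProduct

namespace K641.HurwAsm

/-- Two cartesian squares over the same morphisms have isomorphic corners. -/
theorem exists_iso_of_isPullback {X S T P P' : Scheme.{u}} {f : X ⟶ S} {g : T ⟶ S} {a : P ⟶ X} {b : P ⟶ T}
    {a' : P' ⟶ X} {b' : P' ⟶ T} (h : IsPullback a b f g) (h' : IsPullback a' b' f g) :
    ∃ θ : P ≅ P', θ.hom ≫ b' = b :=
  ⟨h.isoIsPullback _ _ h', h.isoIsPullback_hom_snd _ _ h'⟩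

/-- A family over an affine open `Spec A₁` of `Spec D` and a family over `Spec O`, where `O` is `IndOpen`, with the
same base change to `K`: the second one extends to an open neighbourhood `Spec B`, and both agree over an open `W`. -/
theorem exists_common {D O K A₁ : Type u} [CommRing D] [CommRing O] [Algebra D O] (hO : IndOpen D O) [CommRing K]
    [Nontrivial K] [Algebra D K] (hK : IndOpen D K) [Algebra O K] [IsScalarTower D O K]
    [CommRing A₁] [Algebra D A₁] [IsOpenImmersion (str D A₁)] (χ₁ : A₁ →ₐ[D] K)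
    {X₁ : Scheme.{u}} (f₁ : X₁ ⟶ Spec (CommRingCat.of A₁)) [LocallyOfFinitePresentation f₁] [QuasiCompact f₁]
    [QuasiSeparated f₁] {Y : Scheme.{u}} (q : Y ⟶ Spec (CommRingCat.of O)) [Flat q] [IsProper q]
    [LocallyOfFinitePresentation q] {Z : Scheme.{u}} {z : Z ⟶ Spec (CommRingCat.of K)} {a : Z ⟶ Y} {c : Z ⟶ X₁}
    (ha : IsPullback a z q (Spec.map (CommRingCat.ofHom (algebraMap O K)))) (hc : IsPullback c z f₁ (sp χ₁)) :
    ∃ (B : Type u) (_ : CommRing B) (_ : Algebra D B) (χ : B →ₐ[D] O) (N : Scheme.{u})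
      (ν : N ⟶ Spec (CommRingCat.of B)) (qN : Y ⟶ N) (W : Scheme.{u}) (j₁ : W ⟶ Spec (CommRingCat.of A₁))
      (j₂ : W ⟶ Spec (CommRingCat.of B)) (CW : Scheme.{u}) (fW : CW ⟶ W) (k₁ : CW ⟶ X₁) (k₂ : CW ⟶ N),
      IsOpenImmersion (str D B) ∧ Flat ν ∧ IsProper ν ∧ LocallyOfFinitePresentation ν ∧ IsPullback qN q ν (sp χ) ∧
      IsOpenImmersion j₁ ∧ IsOpenImmersion j₂ ∧ Nonempty W ∧ j₁ ≫ str D A₁ = j₂ ≫ str D B ∧
      IsPullback k₁ fW f₁ j₁ ∧ IsPullback k₂ fW ν j₂ := by
  obtain ⟨B, _, _, hB, χ, N, ν, qN, n1, n2, n3, n4⟩ := exists_model_proper hO q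
  let χB : B →ₐ[D] K := (IsScalarTower.toAlgHom D O K).comp χ
  let χ₂ : A₁ ⊗[D] B →ₐ[D] K := Algebra.TensorProduct.lift χ₁ χB (fun _ _ => Commute.all _ _)
  let _ : Algebra (A₁ ⊗[D] B) K := χ₂.toRingHom.toAlgebra
  have tw : IsScalarTower D (A₁ ⊗[D] B) K := IsScalarTower.of_algebraMap_eq fun x => (χ₂.commutes x).symm
  let p₁ : Spec (CommRingCat.of (A₁ ⊗[D] B)) ⟶ Spec (CommRingCat.of A₁) :=
    Spec.map (CommRingCat.ofHom (Algebra.TensorProduct.includeLeft : A₁ →ₐ[D] A₁ ⊗[D] B).toRingHom)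
  let p₂ : Spec (CommRingCat.of (A₁ ⊗[D] B)) ⟶ Spec (CommRingCat.of B) :=
    Spec.map (CommRingCat.ofHom (Algebra.TensorProduct.includeRight : B →ₐ[D] A₁ ⊗[D] B).toRingHom)
  have hsq : IsPullback p₁ p₂ (str D A₁) (str D B) :=
    isPullback_SpecMap_of_isPushout _ _ _ _ (CommRingCat.isPushout_tensorProduct D A₁ B)
  have hp₁ : IsOpenImmersion p₁ := MorphismProperty.of_isPullback (P := @IsOpenImmersion) hsq.flip ‹_›
  have hp₂ : IsOpenImmersion p₂ := MorphismProperty.of_isPullback (P := @IsOpenImmersion) hsq ‹_›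
  have e₁ : str (A₁ ⊗[D] B) K ≫ p₁ = sp χ₁ := by
    change Spec.map _ ≫ Spec.map _ = Spec.map _
    rw [← Spec.map_comp, ← CommRingCat.ofHom_comp]
    congr 2
    ext x
    change χ₂ (x ⊗ₜ 1) = χ₁ x
    rw [Algebra.TensorProduct.lift_tmul, map_one, mul_one]
  have e₂ : str (A₁ ⊗[D] B) K ≫ p₂ = Spec.map (CommRingCat.ofHom (algebraMap O K)) ≫ sp χ := by
    change Spec.map _ ≫ Spec.map _ = Spec.map _ ≫ Spec.map _
    rw [← Spec.map_comp, ← CommRingCat.ofHom_comp, ← Spec.map_comp, ← CommRingCat.ofHom_comp]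
    congr 2
    ext x
    change χ₂ (1 ⊗ₜ x) = algebraMap O K (χ x)
    rw [Algebra.TensorProduct.lift_tmul, map_one, one_mul]
    rfl
  have e₀ : str D (A₁ ⊗[D] B) = p₁ ≫ str D A₁ := by
    change Spec.map _ = Spec.map _ ≫ Spec.map _
    rw [← Spec.map_comp, ← CommRingCat.ofHom_comp]
    congr 2
  have hop : IsOpenImmersion (str D (A₁ ⊗[D] B)) := by
    rw [e₀]; infer_instance
  have hK₂ : IndOpen (A₁ ⊗[D] B) K := of_tower hK (A₁ ⊗[D] B)
  let f₂ := pullback.snd f₁ p₁
  let g₂ := pullback.snd ν p₂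
  have s1 : IsPullback (pullback.fst f₂ (str (A₁ ⊗[D] B) K) ≫ pullback.fst f₁ p₁)
      (pullback.snd f₂ (str (A₁ ⊗[D] B) K)) f₁ (sp χ₁) := by
    rw [← e₁]
    exact (IsPullback.of_hasPullback f₂ _).paste_horiz (IsPullback.of_hasPullback f₁ p₁)
  have s2 : IsPullback (pullback.fst g₂ (str (A₁ ⊗[D] B) K) ≫ pullback.fst ν p₂)
      (pullback.snd g₂ (str (A₁ ⊗[D] B) K)) ν (Spec.map (CommRingCat.ofHom (algebraMap O K)) ≫ sp χ) := by
    rw [← e₂]
    exact (IsPullback.of_hasPullback g₂ _).paste_horiz (IsPullback.of_hasPullback ν p₂)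
  obtain ⟨θ₁, hθ₁⟩ := exists_iso_of_isPullback s1 hc
  obtain ⟨θ₂, hθ₂⟩ := exists_iso_of_isPullback (ha.paste_horiz n4) s2
  have hθ : (θ₁.hom ≫ θ₂.hom) ≫ pullback.snd g₂ (str (A₁ ⊗[D] B) K) =
      pullback.snd f₂ (str (A₁ ⊗[D] B) K) := by
    rw [Category.assoc, hθ₂, hθ₁]
  have : QuasiCompact ν := inferInstance
  obtain ⟨B₂, _, _, hB₂, χ', η, hη, hη'⟩ := exists_iso f₂ g₂ hK₂ (θ₁.hom ≫ θ₂.hom) hθ
  have hnt : Nontrivial B₂ := χ'.toRingHom.domain_nontrivial
  refine ⟨B, inferInstance, inferInstance, χ, N, ν, qN, Spec (CommRingCat.of B₂), str (A₁ ⊗[D] B) B₂ ≫ p₁,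
    str (A₁ ⊗[D] B) B₂ ≫ p₂, bc f₂ B₂, pullback.snd f₂ _, pullback.fst f₂ _ ≫ pullback.fst f₁ p₁,
    η ≫ pullback.fst g₂ _ ≫ pullback.fst ν p₂, hB, n2, n3, n1, n4, inferInstance, inferInstance, ?_, ?_, ?_, ?_⟩
  · exact inferInstanceAs (Nonempty (PrimeSpectrum B₂))
  · rw [Category.assoc, Category.assoc, hsq.w]
  · exact (IsPullback.of_hasPullback f₂ _).paste_horiz (IsPullback.of_hasPullback f₁ p₁)
  · have s3 : IsPullback η (pullback.snd f₂ (str (A₁ ⊗[D] B) B₂)) (pullback.snd g₂ (str (A₁ ⊗[D] B) B₂)) (𝟙 _) :=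
      IsPullback.of_horiz_isIso ⟨by rw [hη', Category.comp_id]⟩
    have s4 := s3.paste_horiz ((IsPullback.of_hasPullback g₂ _).paste_horiz (IsPullback.of_hasPullback ν p₂))
    rw [Category.id_comp] at s4
    exact s4

end K641.HurwAsm

end
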